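import Cfsg.Agent.Mrg.Omega.NO3S.CaseLW.Lam
import Cfsg.Agent.Mrg.Omega.OM.SwapK.OffW
import Cfsg.Agent.Mrg.Omega.OM.SwapT.TI
import Cfsg.Agent.Mrg.Omega.OM.SwapT.LowF
import Cfsg.Agent.Mrg.Omega.OM.SwapV.Main
import Cfsg.Agent.Mrg.Omega.OM.SwapT.QuietL
import Cfsg.Agent.Mrg.Omega.Node.MulG
import Cfsg.Agent.Mrg.Omega.OM.Lev.SMin
import Cfsg.Agent.Mrg.Omega.OM.SwapL.Main
import Cfsg.Agent.Mrg.Omega.NO3S.CaseLW.QWc

-- merged: Cfsg.Agent.Mrg.Omega.NOThreeL.QWR.LowT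
section

/-!
# NO-3L, box R: THEOREM LAMBDA over `(Q, V*)` (helper417 #24622; #27099 (II), #27386)

`WL S Q` : `Q` is a weakly closed level; `V ≤ Ω₁Z(Q)`, `FrL (BT S Q) Q V X₀ (ZT S Q) L W Z C A 2`, `Ω₁Z(Q) ≤ V`.

* `qv` : `QV T X Q (V ∩ X)` for `X ≤ Q`; `zc_T_le`; `BL_le`;
* `low_lev` : minimal parabolics `Y ≤ C_G(c)` over `T ≥ B` with `lev S n ≰ O₂(Y)`, `lev S n ≤ Q`, centralise `Ω₁Z(T)`;
* **`low_off`** : minimal parabolics `Y ≤ C_G(c)` over `T ≥ B` with `J(S) ≤ O₂(Y)` and a best offender of `T` on `⟨V^Y⟩`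
  outside `O₂(Y)` centralise `Ω₁Z(T)`;
* `fam_of_off`, `fix_of_off` : the family, and fixed points do not lift;
* (the sockets for `SwapV.CrA` are in `LowM.lean`)
-/

set_option autoImplicit false
set_option linter.unusedSectionVars false

namespace Cfsg.Agent.Omega.NOThreeL.QWR.LowT

open Subgroup Cfsg Cfsg.Agent.ZN.ChoiceBase Cfsg.Agent.ZN.ChoiceSit
open Cfsg.Agent.ZN (jj zj bau zc zl o2)
open Cfsg.Agent.MinSimple.MinParabolic (IsMinPar)
open Cfsg.Agent.MinSimple.VModule (oddGen oddGen_le)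
open Cfsg.Agent.Omega.OM
open Cfsg.Agent.Omega.OM.GLev
open Cfsg.Agent.Omega.OM.Lev.Low
open Cfsg.Agent.Omega.OM.Lev.Uni (FrL)
open Cfsg.Agent.Omega.OM.Swap.Fam (Fm BF fm_best)
open Cfsg.Agent.Omega.NO1.BestOff (Best)
open Cfsg.Agent.Omega.NO3S.Level
open Cfsg.Agent.Omega.NO3S.OneLine (bo bo_fam elemM_mono)
open Cfsg.Agent.Omega.FFThm (OffM)
open Cfsg.Agent.Omega.FrameNOFF (CZ)
open Cfsg.Agent.Omega.OM.SwapK (WL best_of_le norm_lim_of)
open Cfsg.Agent.Omega.OM.SwapT (ZT BT LowT)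
open Cfsg.Agent.Omega.NO3S.CaseLW.Lam (YD core)
open Cfsg.Agent.Omega.SQ1.Bau (elem_comm elem_sq)

universe u

variable {G : Type u} [Group G] [Finite G] {S : Sylow 2 G} {Q V : Subgroup G} {ι : Type}
  {X₀ : Subgroup G} {L W Z C A : ι → Subgroup G} {q : ℕ} {T Y : Subgroup G}

/-- `⟨V^Y⟩` -/
abbrev UY (V Y : Subgroup G) : Subgroup G := NoFF.Basic.V V Y

theorem V_le_UY : V ≤ UY V Y := by
  have h1 := NoFF.Basic.Z_le_V (Z := V) (one_mem Y)
  rwa [map_one, one_smul] at h1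

theorem norm_UY : Y ≤ normalizer (UY V Y : Set G) := OmThm.XD.X_le_normalizer_W

section two

variable (h : WL S Q)
include h

theorem T_norm (hT : IsPGroup 2 T) (hB : BT (S : Subgroup G) Q ≤ T) : T ≤ normalizer (Q : Set G) :=
  ((SwapT.lb h.wc).two_le hT hB).trans (SwapT.norm_K h.wc)

theorem Q_le_T (hB : BT (S : Subgroup G) Q ≤ T) : Q ≤ T := (SwapT.K_le h.wc).trans hB

theorem zc_T_le (hT : IsPGroup 2 T) (hB : BT (S : Subgroup G) Q ≤ T) : zc T ≤ ZT (S : Subgroup G) Q :=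
  (SwapT.lev_T (wc_nxt h.wc) h.lev.next hT ((SwapT.lb h.wc).KB.trans hB)).zc_le

theorem zc_le_lev {n : ℕ} (hn : lev (S : Subgroup G) n ≤ Q) : zc Q ≤ zc (lev (S : Subgroup G) n) :=
  (lev_isLev (S : Subgroup G) n).zc_le_zc hn h.lev.le

theorem zc_le_jj : zc Q ≤ zc (jj (S : Subgroup G)) := (Lev.zero (S : Subgroup G)).zc_le_zc h.lev.jjle h.lev.le

/-- `BL S j ≤ B` -/
theorem BL_le {j : ℕ} (hj : lev (S : Subgroup G) j ≤ Q) : LevB.BL (S : Subgroup G) j ≤ BT (S : Subgroup G) Q := by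
  refine inf_le_inf_left _ (centralizer_le ?_)
  exact (lev_isLev (S : Subgroup G) j).zc_le_zc (hj.trans (le_nxt h.lev.le)) (nxt_le _ _)

variable (fr : FrL (BT (S : Subgroup G) Q) Q V X₀ (ZT (S : Subgroup G) Q) L W Z C A q) (zcQ : zc Q ≤ V)
include fr zcQ

/-- **`QV`** -/
theorem qv (hT : IsPGroup 2 T) (hB : BT (S : Subgroup G) Q ≤ T) {X : Subgroup G} (hX : X ≤ Q)
    (hsq : ∀ x ∈ X, x ^ 2 = 1) : YB.QV T X Q (V ⊓ X) where
  QT := Q_le_T h hB
  TQ := T_norm h hT hB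
  mem := by
    intro x
    constructor
    · exact fun hx => ⟨hx.2, fun y hy => fr.cQ hy hx.1⟩
    · rintro ⟨hx, hxQ⟩
      exact ⟨zcQ (mem_zc.2 ⟨hX hx, hsq x hx, fun y hy => hxQ y hy⟩), hx⟩
  two := hT

/-- `V ≤ Ω₁Z(J(S))` -/
theorem V_le_jj (hV : V ≤ zc Q) : V ≤ zc (jj (S : Subgroup G)) := hV.trans (zc_le_jj h)

end two

variable [Finite ι] (h : WL S Q) (fr : FrL (BT (S : Subgroup G) Q) Q V X₀ (ZT (S : Subgroup G) Q) L W Z C A 2)
  (zcQ : zc Q = V)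
include h fr zcQ

/-- **LL at the levels inside `C_G(c)`.** -/
theorem low_lev {c : G} (hc : c ∈ ZT (S : Subgroup G) Q) (hcf : ∀ i, c ∉ C i) (hT : Syl T Y)
    (hB : BT (S : Subgroup G) Q ≤ T) (hP : IsMinPar T Y)
    (hYc : Y ≤ centralizer ({c} : Set G)) (hch : Y ⊓ centralizer (o2 Y : Set G) ≤ o2 Y) {n : ℕ}
    (hnQ : lev (S : Subgroup G) n ≤ Q) (hn : ¬ lev (S : Subgroup G) n ≤ o2 Y) : Y ≤ centralizer (zc T : Set G) := by
  by_contra hZ
  obtain ⟨j, hjn, hlow, hnj⟩ := exists_stg (S : Subgroup G) hn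
  have hle : lev (S : Subgroup G) j ≤ Q := (lev_mono _ hjn).trans hnQ
  obtain ⟨Λ, _, N, c', hy, ⟨l, hl⟩, hcN⟩ := exists_ybj_cent S hT ((BL_le h hle).trans hB) hP hch hlow hnj hZ
  have hVX : V ≤ zc (lev (S : Subgroup G) j) := zcQ.ge.trans (zc_le_lev h hle)
  have hV := qv h fr zcQ.le hT.2.1 hB (X := zc (lev (S : Subgroup G) j)) ((zc_le _).trans hle)
    fun x hx => (mem_zc.1 hx).2.1
  rw [inf_eq_left.2 hVX] at hV
  have hcX : c ∈ zc (lev (S : Subgroup G) j) := hV.VX (fr.ZJV hc)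
  have h1 := no_low_two fr hy hV hB hc hcf
    (hcN c hcX fun y hy' => mem_centralizer_singleton_iff.1 (hYc hy')) l
  exact hl ((zc_T_le h hT.2.1 hB).trans h1)

omit [Finite ι] fr in
theorem norm_jj_of (hl : jj (S : Subgroup G) ≤ o2 Y) : Y ≤ normalizer (jj (S : Subgroup G) : Set G) := fun g hg => by
  have hw : NO3b.Wc.WC (S : Subgroup G) (lev (S : Subgroup G) 0) := lev_wc 0
  exact mem_normalizer_iff_cj.2 (LevD.norm_of_wc hw (isPGroup_o2 Y) hl (le_normalizer_o2 Y hg))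

omit [Finite ι] fr in
theorem UY_le_jj (hl : jj (S : Subgroup G) ≤ o2 Y) : UY V Y ≤ zc (jj (S : Subgroup G)) :=
  NoFF.Basic.V_le fun f hf => by
    have h1 := cj_mono f (zcQ.ge.trans (zc_le_jj h))
    rwa [cj_eq_of_mem_normalizer (normalizer_le_zc _ (norm_jj_of h zcQ hl hf))] at h1

omit [Finite ι] fr in
theorem elab_UY (hl : jj (S : Subgroup G) ≤ o2 Y) : IsElementaryAbelian 2 (UY V Y) := by
  have hle := UY_le_jj h zcQ hl
  exact ⟨⟨⟨fun a b => Subtype.ext (Lev.zc_comm (hle a.2) (hle b.2))⟩⟩, fun a ha => (mem_zc.1 (hle ha)).2.1⟩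

omit [Finite ι] fr in
/-- best offenders of `T` on `⟨V^Y⟩` lie in `nxt S Q` -/
theorem best_le (hl : jj (S : Subgroup G) ≤ o2 Y) (hT : IsPGroup 2 T) (hB : BT (S : Subgroup G) Q ≤ T) {X : Subgroup G}
    (hX : X ≤ T) (hb : Best (UY V Y) X) : X ≤ nxt (S : Subgroup G) Q ∧ Best (zc Q) X := by
  have hb' : Best (zc Q) X := best_of_le (elem_comm (elab_UY h zcQ hl)) hb (zcQ.le.trans V_le_UY)
  exact ⟨h.le_nxt_of_best hT (h.lb.KB.trans hB) hX hb', hb'⟩

/-- **THEOREM LAMBDA over `(Q, V)`.** -/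
theorem low_off {c : G} (hc : c ∈ ZT (S : Subgroup G) Q) (hcf : ∀ i, c ∉ C i) (hT : Syl T Y)
    (hB : BT (S : Subgroup G) Q ≤ T) (hP : IsMinPar T Y)
    (hYc : Y ≤ centralizer ({c} : Set G)) (hch : Y ⊓ centralizer (o2 Y : Set G) ≤ o2 Y)
    (hl : jj (S : Subgroup G) ≤ o2 Y) (hoff : ∃ A, A ≤ T ∧ Best (UY V Y) A ∧ ¬ A ≤ o2 Y) :
    Y ≤ centralizer (zc T : Set G) := by
  by_contra hZ
  set U := UY V Y with hU
  have hel : IsElementaryAbelian 2 U := elab_UY h zcQ hl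
  have hUj : U ≤ zc (jj (S : Subgroup G)) := UY_le_jj h zcQ hl
  have hVU : V ≤ U := V_le_UY
  have hUn : Y ≤ normalizer (U : Set G) := norm_UY
  have hJU : ZT (S : Subgroup G) Q ≤ U := fun x hx => hVU (fr.ZJV hx)
  have hzU : zl T Y ≤ U := ZN.zl_le ((zc_T_le h hT.2.1 hB).trans hJU) hUn
  have hQC := OM.BlkGen.inf_cent hT hP hZ
  obtain ⟨A₁, hA₁T, hb₁, hA₁O⟩ := hoff
  have hA₁ : A₁ ∈ bo T U := ⟨hA₁T, hb₁.toElemM, fun B h1 h2 => hb₁.max B h2 h1⟩
  have hoffM : OffM (zl T Y) A₁ :=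
    { toElemM := elemM_mono hb₁.toElemM hzU le_rfl
      ne := fun h1 => hA₁O ((le_inf hA₁T h1).trans hQC)
      le := (bo_fam T U).off (elem_comm hel) hzU hA₁ }
  obtain ⟨hno, hcon⟩ := FF.Glob.ffthmM G T Y hT hP hch ⟨A₁, hA₁T.trans hT.1, hoffM⟩
  have ge : GE T Y U (bo T U) :=
    { hm := SQ1.FFOne.minH_of hT hP hch
      fam := bo_fam T U
      elem := hel
      norm := hUn
      VX := hzU
      QC := hQC
      noOver := hno }
  have hAB : ∀ A ∈ bo T U, A ≤ BT (S : Subgroup G) Q := by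
    intro A hA
    have hb : Best U A := { toElemM := hA.2.1, max := fun B h1 h2 => hA.2.2 B h2 h1 }
    exact (best_le h zcQ hl hT.2.1 hB hA.1 hb).1.trans h.lb.KB
  have hjQ : zc (jj (S : Subgroup G)) ≤ Q := (zc_le _).trans h.lev.jjle
  have hUT : U ≤ T := (hUj.trans hjQ).trans (Q_le_T h hB)
  obtain ⟨Λ, _, N, c', yx⟩ := NO3S.CaseLW.YBX.exists_ybx ge hUT hcon ⟨A₁, hA₁, hA₁O⟩ hZ
  have yd : YD T Y U (bo T U) N c' := ⟨yx.yb, yx.ex, fun x hx => yx.cen x hx.1, yx.com⟩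
  obtain ⟨l, hll⟩ := yd.mv
  have hV := qv h fr zcQ.le hT.2.1 hB (X := U ⊓ centralizer ((sSup (bo T U) : Subgroup G) : Set G))
    (inf_le_left.trans (hUj.trans hjQ)) fun x hx => (mem_zc.1 (hUj hx.1)).2.1
  have h1 := core fr ge hB hVU hAB yd hV hc hcf
    (fun y hy => mem_centralizer_singleton_iff.1 (hYc hy)) l
  exact hll ((zc_T_le h hT.2.1 hB).trans h1)

omit [Finite ι] fr in
/-- **The family.** -/
theorem fam_of_off (hT : Syl T Y) (hB : BT (S : Subgroup G) Q ≤ T) (hl : jj (S : Subgroup G) ≤ o2 Y)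
    (hoff : ∃ A, A ≤ T ∧ Best (UY V Y) A ∧ ¬ A ≤ o2 Y) :
    ∃ 𝓐 : Set (Subgroup G),
      (∀ Λ : Subgroup G, IsElementaryAbelian 2 Λ → Λ ≤ Y → Y ≤ normalizer (Λ : Set G) → Λ ≤ UY V Y → Fm Y Λ 𝓐) ∧
      (∃ X ∈ 𝓐, X ≤ T ∧ ¬ X ≤ o2 Y) ∧
      ∀ X ∈ 𝓐, X ≤ T → X ≤ BT (S : Subgroup G) Q ∧
        ((∀ a ∈ X, ∀ v ∈ V, a * v = v * a) ∨ OM.Lev.Uni.Best (zc Q) X) := by
  have hel := elab_UY h zcQ hl
  refine ⟨BF Y (UY V Y), fun Λ _ _ hn hle => fm_best hel norm_UY hle hn, ?_, fun X hX hXT => ?_⟩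
  · obtain ⟨A, hA, hb, hn⟩ := hoff
    exact ⟨A, ⟨hA.trans hT.1, hT.2.1.to_le hA, hb⟩, hA, hn⟩
  · obtain ⟨h1, h2⟩ := best_le h zcQ hl hT.2.1 hB hXT hX.2.2
    exact ⟨h1.trans h.lb.KB, Or.inr fun F' h1 h3 => h2.max F' h3 h1⟩

omit [Finite ι] fr in
/-- **Fixed points do not lift.** -/
theorem fix_of_off (hT : Syl T Y) (hmin : IsMinPar T Y)
    (hl : jj (S : Subgroup G) ≤ o2 Y) (hz : Y ≤ centralizer (zc T : Set G))
    (hoff : ∃ A, A ≤ T ∧ Best (UY V Y) A ∧ ¬ A ≤ o2 Y) :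
    UY V Y ⊓ zc (o2 Y) ≤ centralizer (oddGen Y : Set G) := by
  obtain ⟨A, hAT, hb, hAO⟩ := hoff
  have hOT : o2 Y ≤ T := o2_le_syl hT
  have hc := elem_comm (elab_UY h zcQ hl)
  have hb' : Best (UY V Y ⊓ zc (o2 Y)) A := best_of_le hc hb inf_le_left
  have hUO : UY V Y ⊓ zc (o2 Y) ≤ o2 Y := inf_le_right.trans (zc_le _)
  have hsq : ∀ y ∈ UY V Y ⊓ zc (o2 Y), y ^ 2 = 1 := fun u hu => (mem_zc.1 hu.2).2.1
  have hcom : UY V Y ⊓ zc (o2 Y) ≤ centralizer ((UY V Y ⊓ zc (o2 Y) : Subgroup G) : Set G) := by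
    intro u hu
    rw [mem_centralizer_iff]
    exact fun v hv => (mem_zc.1 hu.2).2.2 v (mem_zc.1 hv.2).1
  have hN : Y ≤ normalizer ((UY V Y ⊓ zc (o2 Y) : Subgroup G) : Set G) :=
    NO3b.K0.norm_inf norm_UY ((le_normalizer_o2 Y).trans (normalizer_le_zc _))
  have hQ : o2 Y ≤ centralizer ((UY V Y ⊓ zc (o2 Y) : Subgroup G) : Set G) :=
    (le_centralizer_zc _).trans (centralizer_le inf_le_right)
  refine NO3S.Fld.ff_lemma_off FF.Glob.aStmt hT hmin (hUO.trans (o2_le Y)) hsq hcom hN hQ ?_ hAT hAO hb'.toElemM ?_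
  · rintro x ⟨hx, hxT⟩
    have hxz : x ∈ zc T := mem_zc.2 ⟨hOT (hUO hx), hsq x hx, fun t ht => mem_centralizer_iff.1 hxT t ht⟩
    rw [mem_centralizer_iff]
    exact fun e he => (mem_centralizer_iff.1 (hz (oddGen_le Y he)) x hxz).symm
  · have h2 := hb'.max (A ⊓ centralizer ((UY V Y ⊓ zc (o2 Y) : Subgroup G) : Set G)) inf_le_left le_rfl
    have e : (UY V Y ⊓ zc (o2 Y)) ⊓ centralizer ((A ⊓ centralizer ((UY V Y ⊓ zc (o2 Y) : Subgroup G) : Set G) :
        Subgroup G) : Set G) = UY V Y ⊓ zc (o2 Y) :=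
      inf_eq_left.2 (le_centralizer_iff.1 inf_le_right)
    rw [e, mul_comm] at h2
    exact h2

end Cfsg.Agent.Omega.NOThreeL.QWR.LowT

end

-- merged: Cfsg.Agent.Mrg.Omega.OM.SwapV.MainN
section

/-!
# THEOREM SW over an abstract frame, inside `C_G(Ω₁Z(S)^g)`, `g ∈ N_G(B)`

`MainZ.lean` with `C_G(c)` (`c ∈ Z_J` of full support) replaced by the centralisers `C_G(Ω₁Z(S)^g)`, `g ∈ N_G(B)`:
the group `X = C_ZJ(T) Z_j` contains `Ω₁Z(S)^g` if `T ≤ S^g`. (Box R, one class, infinite stage: the minimal parabolics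
`Y ≤ C_G(c)` which move `Ω₁Z(S)` are not needed.)

* `CrA.zc_cj_le` : `T ≥ B` a 2-group ⟹ `Ω₁Z(S)^g ≤ C_ZJ(T)` for some `g ∈ N_G(B)`;
* `CrA.exists_maxN`, `exists_sitN`, `le_of_char2N`, `cz_leN` : `C_G(Ω₁Z(S)) ≤ M`; `CrA.noOmN` : (Om) is impossible.
-/

set_option autoImplicit false
set_option linter.unusedSectionVars false

namespace Cfsg.Agent.Omega.OM.SwapV

open Subgroup Cfsg Cfsg.Agent.ZN.ChoiceBase Cfsg.Agent.ZN.ChoiceSit
open Cfsg.Agent.ZN (jj zj bau zc zl o2)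
open Cfsg.Agent.MinSimple.MinParabolic (IsMinPar)
open Cfsg.Agent.Omega.OM.LevD (LB K0 Fam)
open Cfsg.Agent.Omega.OM.LevB (FBlk)
open Cfsg.Agent.Omega.OM.Swap.Fam (Fm SitF)
open Cfsg.Agent.Omega.OM.Swap (char2_cent)
open Cfsg.Agent.Omega.OM.SwapL (cj_mul_eq cj_inv_eq Phi)

universe u

variable {G : Type u} [Group G] [Finite G]

namespace CrA

open Cr

variable {ι : Type} [Finite ι] {S : Sylow 2 G} {K B V ZJ : Subgroup G} {L W Z C A : ι → Subgroup G}

/-- `Ω₁Z(S)^g ≤ C_ZJ(T)` for a `g ∈ N_G(B)`, if `T ≥ B` is a 2-group. -/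
theorem zc_cj_le (h : CrA S K B V ZJ L W Z C A) {T : Subgroup G} (hT : IsPGroup 2 T) (hB : B ≤ T) :
    ∃ g ∈ normalizer (B : Set G), cj g (zc (S : Subgroup G)) ≤ ZJ ⊓ centralizer (T : Set G) := by
  obtain ⟨S', hS'⟩ := hT.exists_le_sylow
  obtain ⟨g, hg⟩ := MulAction.exists_smul_eq G S S'
  have hg2 : (S' : Subgroup G) = cj g (S : Subgroup G) := by
    rw [← hg, Sylow.coe_subgroup_smul]
    rfl
  have hgN : g ∈ normalizer (B : Set G) := by
    have h1 : cj g⁻¹ B ≤ (S : Subgroup G) := by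
      have := cj_mono g⁻¹ ((hB.trans hS').trans hg2.le)
      rwa [cj_inv_cj] at this
    have h2 := h.wc _ S.isPGroup' h.lb.BS _ h1
    have h3 := inv_mem (mem_normalizer_iff_cj.2 h2)
    rwa [inv_inv] at h3
  refine ⟨g, hgN, le_inf ?_ ?_⟩
  · have h6 := cj_mono g h.zcS
    rwa [cj_eq_of_mem_normalizer (h.lb.norm_B_le hgN)] at h6
  · intro z hz
    rw [← NO3S.Level.zc_cj, ← hg2] at hz
    rw [mem_centralizer_iff]
    intro t ht
    exact (mem_zc.1 hz).2.2 t (hS' ht)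

/-- A pair with `|C_ZJ(T)|` maximal; `C_G(C_ZJ(T) z_j) ≤ M` for the moved indices `j`. -/
theorem exists_maxN (h : CrA S K B V ZJ L W Z C A) {M H : Subgroup G}
    (hBM : ∀ g ∈ normalizer (B : Set G), BMH K B M (centralizer (cj g (zc (S : Subgroup G)) : Set G)))
    (hBMH : BMH K B M H)
    (hD : centralizer (ZJ : Set G) ≤ M) (hN : normalizer (B : Set G) ≤ M)
    (hB : B ≤ H) (hch : H ⊓ centralizer (o2 H : Set G) ≤ o2 H) (hM : ¬ H ≤ M) :
    ∃ T F : Subgroup G, Pair K B V ZJ M T F ∧ ∀ j, j ∉ Phi Z T →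
      centralizer ((ZJ ⊓ centralizer (T : Set G) ⊔ Z j : Subgroup G) : Set G) ≤ M := by
  classical
  have hS2 : IsPGroup 2 ZJ := h.lb.Bp.to_le h.lb.ZB
  -- choose
  let s : Set ℕ := {m | ∃ T F : Subgroup G, Pair K B V ZJ M T F ∧
    Nat.card (ZJ ⊓ centralizer (T : Set G) : Subgroup G) = m}
  have hs1 : s.Nonempty := by
    obtain ⟨T, F, hp, -⟩ := exists_pairH h.toCr hBMH hD hN hB hch hM
    exact ⟨_, T, F, hp, rfl⟩
  have hs2 : s.Finite := by
    refine (Set.finite_Iic (Nat.card ZJ)).subset ?_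
    rintro m ⟨T, F, -, rfl⟩
    rw [Set.mem_Iic]
    exact Nat.card_mono (Set.toFinite _) (inf_le_left : ZJ ⊓ centralizer (T : Set G) ≤ _)
  obtain ⟨m, hm⟩ := hs2.exists_maximal hs1
  obtain ⟨T, F, hp, hcard⟩ := hm.prop
  refine ⟨T, F, hp, fun j hj => ?_⟩
  by_contra hcon
  set X : Subgroup G := ZJ ⊓ centralizer (T : Set G) ⊔ Z j with hX
  have hXJ : X ≤ ZJ := sup_le inf_le_left (h.Z_le j)
  have hX1 : X ≠ ⊥ := by
    intro e
    obtain ⟨z, hz, hz1⟩ := Z_ne h.toCr j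
    have h1 : z ∈ X := mem_sup_right hz
    rw [e, mem_bot] at h1
    exact hz1 h1
  obtain ⟨g, hg, hgT⟩ := zc_cj_le h hp.syl.2.1 hp.BT
  have hXc : centralizer (X : Set G) ≤ centralizer (cj g (zc (S : Subgroup G)) : Set G) :=
    centralizer_le (by exact_mod_cast hgT.trans le_sup_left)
  have hBX : B ≤ centralizer (X : Set G) :=
    h.lb.Bc.trans (centralizer_le (by exact_mod_cast hXJ))
  obtain ⟨T', F', hp', hle⟩ := exists_pairH h.toCr
    (fun T' Y hT hB' hY hYH => hBM g hg T' Y hT hB' hY (hYH.trans hXc)) hD hN hBX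
    (char2_cent h.char2 (hS2.to_le hXJ) hX1) hcon
  have hsub : X ≤ ZJ ⊓ centralizer (T' : Set G) :=
    le_inf hXJ (le_centralizer_iff.1 (hp'.syl.1.trans hle))
  have hlt : ZJ ⊓ centralizer (T : Set G) < X := by
    refine lt_of_le_of_ne le_sup_left fun e => hj fun t ht => ?_
    refine cj_eq_of_mem_normalizer (centralizer_le_normalizer _ ?_)
    have h1 : Z j ≤ centralizer (T : Set G) := by
      have h2 : Z j ≤ ZJ ⊓ centralizer (T : Set G) := by
        rw [e]; exact le_sup_right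
      exact h2.trans inf_le_right
    exact le_centralizer_iff.1 h1 ht
  have h2 : m < Nat.card (ZJ ⊓ centralizer (T' : Set G) : Subgroup G) := by
    rw [← hcard]
    refine lt_of_lt_of_le (lt_of_not_ge fun hge => hlt.ne (Subgroup.eq_of_le_of_card_ge hlt.le hge))
      (Nat.card_mono (Set.toFinite _) (hsub : (X : Set G) ⊆ _))
  exact absurd (hm.le_of_ge ⟨T', F', hp', rfl⟩ h2.le) (not_le.2 h2)

/-- **STEP 0.** -/
theorem exists_sitN (h : CrA S K B V ZJ L W Z C A) {M H : Subgroup G}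
    (hBM : ∀ g ∈ normalizer (B : Set G), BMH K B M (centralizer (cj g (zc (S : Subgroup G)) : Set G)))
    (hBMH : BMH K B M H) (hLM : ∀ i, L i ≤ M)
    (hD : centralizer (ZJ : Set G) ≤ M) (hN : normalizer (B : Set G) ≤ M)
    (hB : B ≤ H) (hch : H ⊓ centralizer (o2 H : Set G) ≤ o2 H) (hM : ¬ H ≤ M) :
    ∃ (T F F₀ : Subgroup G) (𝓐 : Set (Subgroup G)) (κ : Type) (V' : κ → Subgroup G) (z : κ → G),
      SitF F T F₀ 𝓐 V' z := by
  classical
  obtain ⟨T, F, hp, hcen⟩ := exists_maxN h hBM hBMH hD hN hB hch hM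
  obtain ⟨r, hr⟩ := exists_orb h.toCr hp hD
  choose z hz hz1 using Z_ne h.toCr
  choose tv htvA htvm using exists_tv h
  obtain ⟨i₀, hi₀, j₀, hj₀r, hne₀⟩ := hr.two
  have hctx : Ctx S K B V ZJ L W Z C A M T F r z tv :=
    { h := h
      hp := hp
      LM := hLM
      NM := hN
      cen := fun i hi => hcen i (hr.rPhi i hi)
      zZ := hz
      zn := hz1
      tvA := htvA
      tvm := htvm
      tr := hr.tr
      inv := hr.inv
      nt := fun i _ => by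
        by_cases hi : i = i₀
        · exact ⟨j₀, hj₀r, fun e => hne₀ (by rw [← hi, e])⟩
        · exact ⟨i₀, hi₀, fun e => hi e.symm⟩ }
  refine sit_of h.toCr hp hD hN hr fun i hi x hx hx1 f hf hxf => ?_
  rw [mem_cj] at hxf
  exact hctx.ti hf hi hx hx1 hxf

/-- **THEOREM SW** over an abstract frame, inside `C_G(Ω₁Z(S)^g)`. -/
theorem le_of_char2N (h : CrA S K B V ZJ L W Z C A) {M H : Subgroup G}
    (hBM : ∀ g ∈ normalizer (B : Set G), BMH K B M (centralizer (cj g (zc (S : Subgroup G)) : Set G)))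
    (hBMH : BMH K B M H) (hLM : ∀ i, L i ≤ M)
    (hD : centralizer (ZJ : Set G) ≤ M) (hN : normalizer (B : Set G) ≤ M)
    (hB : B ≤ H) (hch : H ⊓ centralizer (o2 H : Set G) ≤ o2 H) : H ≤ M := by
  by_contra hM
  obtain ⟨T, F, F₀, 𝓐, κ, V', z, hS⟩ := exists_sitN h hBM hBMH hLM hD hN hB hch hM
  exact hS.false

/-- `C_G(Ω₁Z(S)) ≤ M` -/
theorem cz_leN (h : CrA S K B V ZJ L W Z C A) {M : Subgroup G}
    (hBM : ∀ g ∈ normalizer (B : Set G), BMH K B M (centralizer (cj g (zc (S : Subgroup G)) : Set G)))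
    (hLM : ∀ i, L i ≤ M) (hD : centralizer (ZJ : Set G) ≤ M) (hN : normalizer (B : Set G) ≤ M)
    (hS1 : (S : Subgroup G) ≠ ⊥) : centralizer (zc (S : Subgroup G) : Set G) ≤ M := by
  have h1 := MinPar.isLoc_centralizer_zc S hS1
  refine le_of_char2N h hBM ?_ hLM hD hN (h.lb.BS.trans h1.le) (h1.char2 S h.char2)
  have h2 := hBM 1 (one_mem _)
  rwa [cj_one] at h2

/-- **(Om) is impossible**: `K0 = ⟨C_G(Z_J), blocks⟩` normalises no 2-group `R ≠ 1`, if no 2-group `≠ 1` is normalised by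
`C_G(Ω₁Z(S))` and all members of `Pr` (parabolics over `S` which move `Ω₁Z(S)`). -/
theorem noOmN (h : CrA S K B V ZJ L W Z C A) (hF : Fam B ZJ (FBlk B))
    (hLM : ∀ i, L i ≤ K0 ZJ (FBlk B))
    (hBM : ∀ M : Subgroup G, K0 ZJ (FBlk B) ≤ M → normalizer (B : Set G) ≤ M → o2 M ≠ ⊥ →
      ∀ g ∈ normalizer (B : Set G), BMH K B M (centralizer (cj g (zc (S : Subgroup G)) : Set G)))
    {Pr : Subgroup G → Prop}
    (hPr : ∀ P, Pr P → K ≤ o2 P ∨ P ≤ K0 ZJ (FBlk B) ⊔ (S : Subgroup G))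
    (hnon : ∀ R : Subgroup G, IsPGroup 2 R → (∀ P, Pr P → P ≤ normalizer (R : Set G)) →
      centralizer (zc (S : Subgroup G) : Set G) ≤ normalizer (R : Set G) → R = ⊥) :
    ∀ R : Subgroup G, IsPGroup 2 R → K0 ZJ (FBlk B) ≤ normalizer (R : Set G) → R = ⊥ := by
  by_contra hcon
  push Not at hcon
  obtain ⟨R, hR, hRn, hR1⟩ := hcon
  obtain ⟨ho, hoB, hle⟩ := hF.dich h.lb hR hR1 hRn
  set O : Subgroup G := o2 (K0 ZJ (FBlk B)) with hO
  set M : Subgroup G := normalizer (O : Set G) with hM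
  have hK : K0 ZJ (FBlk B) ≤ M := le_sup_left.trans hle
  have hN : normalizer (B : Set G) ≤ M := le_sup_right.trans hle
  have hSM : (S : Subgroup G) ≤ M := (h.lb.two_le S.isPGroup' h.lb.BS).trans hN
  have hoM : o2 M ≠ ⊥ := by
    intro e
    apply ho
    have h1 : O ≤ o2 M := le_o2 (isPGroup_o2 _) le_normalizer le_rfl
    rw [e] at h1
    exact le_bot_iff.1 h1
  have hD : centralizer (ZJ : Set G) ≤ M := LevD.cent_le_K0.trans hK
  have hZM : normalizer (ZJ : Set G) ≤ M := h.lb.norm_zj_le.trans (sup_le hD hN)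
  have hS1 : (S : Subgroup G) ≠ ⊥ := fun e => ho (by
    have h1 := hoB.trans h.lb.BS
    rw [e] at h1
    exact le_bot_iff.1 h1)
  have h2 := cz_leN h (hBM M hK hN hoM) (fun i => (hLM i).trans hK) hD hN hS1
  refine ho (hnon _ (isPGroup_o2 _) (fun P hP => ?_) h2)
  rcases hPr P hP with hKP | h3
  · exact ((le_normalizer_o2 P).trans (h.lb.nrm _ (isPGroup_o2 P) hKP)).trans hZM
  · exact h3.trans (sup_le hK hSM)

end CrA

end Cfsg.Agent.Omega.OM.SwapV

end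

-- merged: Cfsg.Agent.Mrg.Omega.NOThreeL.QWR.LowM
section

section


/-!
# NO-3L, box R: the sockets `BMH` of THEOREM SW at `(Q, V*)` (input of `SwapV.CrA.le_of_char2N`, `cz_leN`, `noOmN`)

`WL S Q`, `FrL (BK S Q) Q V X₀ (ZK S Q) L W Z C A 2`, `Ω₁Z(Q) = V`, `c ∈ Ω₁Z(S)` of full support;
`OffM S V Q M` : (THEOREM QW at `(Q, V*)`) a minimal parabolic `F ≤ C_G(Z)` over `T`, `B ≤ T ≤ S`, with `J(S) ≤ O₂(F)`,
`Q ≰ O₂(F)`, `F ≰ M`, has a best offender of `T` on `⟨V^F⟩` outside `O₂(F)`.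

* `exists_norm_cz` : a 2-group `T ≥ B` in `C_G(Z^g)`, `g ∈ N_G(B)`, lies in `S^k`, `k ∈ N_G(B)`, `Z^k = Z^g`;
* `bm_base` : minimal parabolics of `C_G(Z)` over `T`, `B ≤ T ≤ S`, which move `Ω₁Z(T)`, `nxt S Q ≰ O₂`, lie in `M`;
* **`bmh_of`** : `BMH` inside `C_G(Z^g)`, `g ∈ N_G(B)`;
* `blk_le` : (UNI) the FF-blocks over `B` with module in `Ω₁Z(Q)` lie in `⟨C_G(Z_J), L i⟩`; **`bmh_top`** : `bmh_of` for
  `M ≥ C_G(Z_J), L i, N_G(B)`;
* `exists_fullS` : an element of `Ω₁Z(S)` of full support; **`bmh_all`** : `bmh_top` without `c`.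
-/

set_option autoImplicit false
set_option linter.unusedSectionVars false

namespace Cfsg.Agent.Omega.NOThreeL.QWR.LowM

open Subgroup Cfsg Cfsg.Agent.ZN.ChoiceBase Cfsg.Agent.ZN.ChoiceSit
open Cfsg.Agent.ZN (jj zj bau zc zl o2)
open Cfsg.Agent.MinSimple.MinParabolic (IsMinPar)
open Cfsg.Agent.MinSimple.VModule (oddGen oddGen_le)
open Cfsg.Agent.Omega.OM
open Cfsg.Agent.Omega.OM.Lev.Uni (FrL)
open Cfsg.Agent.Omega.OM.LevB (FBlk)
open Cfsg.Agent.Omega.OM.LevD (LB K0)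
open Cfsg.Agent.Omega.NO1.BestOff (Best)
open Cfsg.Agent.Omega.NO3S.Level
open Cfsg.Agent.Omega.OM.SwapK (WL BK ZK)
open Cfsg.Agent.Omega.OM.SwapV (BMH)
open Cfsg.Agent.Omega.OM.SwapT.QuietL (isMinPar_cj best_cj)
open Cfsg.Agent.Omega.NOThreeL.QWR.LowT (UY)

universe u

variable {G : Type u} [Group G] [Finite G]

/-- **THEOREM QW at `(Q, V)`**, its conclusion, for the `F ≰ M`. -/
def OffM (S : Sylow 2 G) (V Q M : Subgroup G) : Prop :=
  ∀ T F : Subgroup G, Syl T F → BK (S : Subgroup G) Q ≤ T → T ≤ (S : Subgroup G) → IsMinPar T F →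
    F ⊓ centralizer (o2 F : Set G) ≤ o2 F → F ≤ centralizer (zc (S : Subgroup G) : Set G) →
    jj (S : Subgroup G) ≤ o2 F → ¬ Q ≤ o2 F → ¬ oddGen F ≤ centralizer (ZK (S : Subgroup G) Q : Set G) → ¬ F ≤ M →
    ∃ A, A ≤ T ∧ Best (NoFF.Basic.V V F) A ∧ ¬ A ≤ o2 F

variable {S : Sylow 2 G} {Q V : Subgroup G} {ι : Type}
  {X₀ : Subgroup G} {L W Z C A : ι → Subgroup G} {q : ℕ} {T Y M : Subgroup G}

section conj

variable (h : WL S Q)
include h

/-- A 2-group `T ≥ B` inside `C_G(Z^g)`, `g ∈ N_G(B)`, lies in `S^k`, `k ∈ N_G(B)`, `Z^k = Z^g`. -/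
theorem exists_norm_cz {g : G} (hT : IsPGroup 2 T)
    (hB : BK (S : Subgroup G) Q ≤ T) (hTc : T ≤ centralizer (cj g (zc (S : Subgroup G)) : Set G)) :
    ∃ k ∈ normalizer (BK (S : Subgroup G) Q : Set G), T ≤ cj k (S : Subgroup G) ∧
      cj k (zc (S : Subgroup G)) = cj g (zc (S : Subgroup G)) := by
  set H : Subgroup G := centralizer (cj g (zc (S : Subgroup G)) : Set G) with hH
  have hSH : cj g (S : Subgroup G) ≤ H := by
    rw [hH, ← cj_centralizer]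
    exact cj_mono g (le_centralizer_zc _)
  have hSs : Syl (cj g (S : Subgroup G)) H := by
    have hS : ((g • S : Sylow 2 G) : Subgroup G) = cj g (S : Subgroup G) := by
      rw [Sylow.coe_subgroup_smul]; rfl
    rw [← hS] at hSH ⊢
    exact ⟨hSH, (g • S : Sylow 2 G).isPGroup', fun R _ hR hle => (g • S : Sylow 2 G).is_maximal' hR hle⟩
  obtain ⟨T₁, hT₁, hTT⟩ := exists_syl hT hTc
  obtain ⟨x, hx, hxT⟩ := syl_conj hSs hT₁
  have e1 : cj (x * g) (S : Subgroup G) = T₁ := by rw [← hxT, cj_cj]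
  have h1 : cj (x * g)⁻¹ (BK (S : Subgroup G) Q) ≤ (S : Subgroup G) := by
    have := cj_mono (x * g)⁻¹ ((hB.trans hTT).trans e1.ge)
    rwa [cj_inv_cj] at this
  have h2 := h.wcB _ S.isPGroup' h.lb.BS _ h1
  have h3 := inv_mem (mem_normalizer_iff_cj.2 h2)
  rw [inv_inv] at h3
  refine ⟨x * g, h3, hTT.trans e1.ge, ?_⟩
  rw [← cj_cj]
  exact cj_eq_of_mem_normalizer (centralizer_le_normalizer _ hx)

end conj

section base

variable [Finite ι] (h : WL S Q)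
  (fr : FrL (BK (S : Subgroup G) Q) Q V X₀ (ZK (S : Subgroup G) Q) L W Z C A 2) (zcQ : zc Q = V)
include h fr zcQ

/-- minimal parabolics of `C_G(Z)` over `T`, `B ≤ T ≤ S` -/
theorem bm_base (ho : OffM S V Q M) {c : G} (hc : c ∈ zc (S : Subgroup G)) (hcf : ∀ i, c ∉ C i)
    (hM : ∀ L' V' : Subgroup G, FBlk (BK (S : Subgroup G) Q) L' V' → V' ≤ zc Q → L' ≤ M)
    (hN : normalizer (BK (S : Subgroup G) Q : Set G) ≤ M)
    (hT : Syl T Y) (hB : BK (S : Subgroup G) Q ≤ T) (hTS : T ≤ (S : Subgroup G)) (hP : IsMinPar T Y)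
    (hYZ : Y ≤ centralizer (zc (S : Subgroup G) : Set G)) (hch : Y ⊓ centralizer (o2 Y : Set G) ≤ o2 Y)
    (hK : ¬ nxt (S : Subgroup G) Q ≤ o2 Y) (hZ : ¬ Y ≤ centralizer (zc T : Set G)) : Y ≤ M := by
  by_contra hYM
  have hcJ : c ∈ ZK (S : Subgroup G) Q := h.lev.next.zc_le hc
  have hYc : Y ≤ centralizer ({c} : Set G) := fun y hy => mem_centralizer_singleton_iff.2
    (mem_centralizer_iff.1 (hYZ hy) c hc).symm
  by_cases hQ : Q ≤ o2 Y
  · obtain ⟨L', V', hLY, hF, hVQ, hsup⟩ := SwapT.exists_fblk h.wc h.lev hT hB hP hch hQ hK hZ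
    exact hYM (hsup.trans (sup_le ((h.lb.two_le hT.2.1 hB).trans hN) (hM _ _ hF hVQ)))
  by_cases hj : jj (S : Subgroup G) ≤ o2 Y
  · have hmv : ¬ oddGen Y ≤ centralizer (ZK (S : Subgroup G) Q : Set G) := by
      intro hcon
      apply hZ
      rw [← Dich.oddGen_sup_syl hT]
      exact sup_le (hcon.trans (centralizer_le (by exact_mod_cast LowT.zc_T_le h hT.2.1 hB))) (le_centralizer_zc T)
    obtain ⟨A', hA', hb, hn⟩ := ho T Y hT hB hTS hP hch hYZ hj hQ hmv hYM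
    exact hZ (LowT.low_off h fr zcQ hcJ hcf hT hB hP hYc hch hj ⟨A', hA', hb, hn⟩)
  · exact hZ (LowT.low_lev h fr zcQ hcJ hcf hT hB hP hYc hch (n := 0) h.lev.jjle hj)

/-- **The socket `BMH` inside `C_G(Z^g)`, `g ∈ N_G(B)`.** -/
theorem bmh_of (ho : OffM S V Q M) {c : G} (hc : c ∈ zc (S : Subgroup G)) (hcf : ∀ i, c ∉ C i)
    (hM : ∀ L' V' : Subgroup G, FBlk (BK (S : Subgroup G) Q) L' V' → V' ≤ zc Q → L' ≤ M)
    (hN : normalizer (BK (S : Subgroup G) Q : Set G) ≤ M) :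
    ∀ g ∈ normalizer (BK (S : Subgroup G) Q : Set G),
      BMH (nxt (S : Subgroup G) Q) (BK (S : Subgroup G) Q) M (centralizer (cj g (zc (S : Subgroup G)) : Set G)) := by
  intro g hg T Y hT hB hP hYZ hch hK hZ
  obtain ⟨k, hk, hTk, hkZ⟩ := exists_norm_cz h hT.2.1 hB (hT.1.trans hYZ)
  have hki : k⁻¹ ∈ normalizer (BK (S : Subgroup G) Q : Set G) := inv_mem hk
  have hkB : cj k⁻¹ (BK (S : Subgroup G) Q) = BK (S : Subgroup G) Q := mem_normalizer_iff_cj.1 hki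
  have hkK : cj k⁻¹ (nxt (S : Subgroup G) Q) = nxt (S : Subgroup G) Q :=
    LevD.norm_of_wc (wc_nxt h.wc) h.lb.Bp h.lb.KB hki
  have ho2 : o2 (cj k⁻¹ Y) = cj k⁻¹ (o2 Y) := o2_cj _ _
  have hY' : cj k⁻¹ Y ≤ M := by
    refine bm_base h fr zcQ ho hc hcf hM hN (NO1.JMin.syl_cj hT k⁻¹) ?_ ?_ (isMinPar_cj k⁻¹ hP) ?_ ?_ ?_ ?_
    · have := cj_mono k⁻¹ hB
      rwa [hkB] at this
    · have := cj_mono k⁻¹ hTk
      rwa [cj_inv_cj] at this
    · have h1 := cj_mono k⁻¹ hYZ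
      rwa [cj_centralizer, ← hkZ, cj_inv_cj] at h1
    · rw [ho2]
      have := cj_mono k⁻¹ hch
      rwa [cj_inf, cj_centralizer] at this
    · intro hcon
      apply hK
      rw [ho2] at hcon
      have := cj_mono k hcon
      rw [cj_cj_inv] at this
      refine le_trans (le_of_eq ?_) this
      rw [← hkK, cj_cj_inv, hkK]
    · intro hcon
      apply hZ
      have := cj_mono k hcon
      rwa [cj_centralizer, NO3S.Level.zc_cj, cj_cj_inv, cj_cj_inv] at this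
  have h2 := cj_mono k hY'
  rw [cj_cj_inv] at h2
  exact h2.trans (cj_eq_of_mem_normalizer (le_normalizer (hN hk))).le

end base

section top

variable [Finite ι] (h : WL S Q)
  (fr : FrL (BK (S : Subgroup G) Q) Q V V (ZK (S : Subgroup G) Q) L W Z C A 2) (zcQ : zc Q = V)
include h fr zcQ

/-- **(UNI)** FF-blocks over `B` with module in `Ω₁Z(Q)` lie in `⟨C_G(Z_J), L i⟩`. -/
theorem blk_le {L' V' : Subgroup G} (hF : FBlk (BK (S : Subgroup G) Q) L' V')
    (hV : V' ≤ zc Q) : L' ≤ centralizer (ZK (S : Subgroup G) Q : Set G) ⊔ ⨆ i, L i := by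
  obtain ⟨⟨Z', q', hb⟩, -⟩ := hF
  have hp : ∀ g ∈ normalizer (BK (S : Subgroup G) Q : Set G), ∀ j, ∃ k, cj g (Z j) = Z k := by
    intro g hg j
    have hgV : g ∈ normalizer (V : Set G) := by
      rw [← zcQ]
      exact normalizer_le_zc _ (h.norm_B hg)
    obtain ⟨k, hk, -⟩ := (fr.norm_of hg hgV).2 j
    exact ⟨k, hk⟩
  obtain ⟨-, i, -, -, -, -, h2⟩ := OM.Lev.UniPlus.uniPlusX fr h.lb.Bp h.wcB hp hb (hV.trans zcQ.le)
  refine (h2 rfl).2.trans (sup_le (le_sup_of_le_right (le_iSup L i)) (le_sup_of_le_left (centralizer_le ?_)))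
  exact_mod_cast (le_sup_right : ZK (S : Subgroup G) Q ≤ W i ⊔ ZK (S : Subgroup G) Q)

/-- **The socket `BMH`** for a group `M ≥ C_G(Z_J), L i, N_G(B)`. -/
theorem bmh_top (ho : OffM S V Q M) {c : G} (hc : c ∈ zc (S : Subgroup G)) (hcf : ∀ i, c ∉ C i)
    (hD : centralizer (ZK (S : Subgroup G) Q : Set G) ≤ M) (hL : ∀ i, L i ≤ M)
    (hN : normalizer (BK (S : Subgroup G) Q : Set G) ≤ M) :
    ∀ g ∈ normalizer (BK (S : Subgroup G) Q : Set G),
      BMH (nxt (S : Subgroup G) Q) (BK (S : Subgroup G) Q) M (centralizer (cj g (zc (S : Subgroup G)) : Set G)) :=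
  bmh_of h fr zcQ ho hc hcf (fun _ _ h1 h2 => (blk_le h fr zcQ h1 h2).trans (sup_le hD (iSup_le hL))) hN

/-- `g c g⁻¹`, `g ∈ N_G(B)`, is of full support if `c` is -/
theorem full_norm {c g : G} (hc : c ∈ ZK (S : Subgroup G) Q) (hcf : ∀ i, c ∉ C i)
    (hg : g ∈ normalizer (BK (S : Subgroup G) Q : Set G)) (j : ι) : g * c * g⁻¹ ∉ C j := by
  intro hcon
  have hgV : ∀ {g : G}, g ∈ normalizer (BK (S : Subgroup G) Q : Set G) → g ∈ normalizer (V : Set G) := by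
    intro g hg
    rw [← zcQ]
    exact normalizer_le_zc _ (h.norm_B hg)
  have hgi := inv_mem hg
  have hgJ : g * c * g⁻¹ ∈ ZK (S : Subgroup G) Q := (mem_normalizer_iff.1 (h.lb.norm_B_le hg) c).1 hc
  obtain ⟨i, hi, -⟩ := (fr.norm_of hgi (hgV hgi)).2 j
  have h1 : g * c * g⁻¹ ∈ ⨆ m : {m : ι // m ≠ j}, Z m.1 :=
    OM.Lev.Low.Line.ZJ_C_le fr (N := ⨆ m : {m : ι // m ≠ j}, Z m.1)
      (fun m hm => le_iSup (fun m : {m : ι // m ≠ j} => Z m.1) ⟨m, hm⟩) hgJ hcon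
  have h2 : (⨆ m : {m : ι // m ≠ j}, Z m.1) ≤ cj g (C i) := by
    refine iSup_le ?_
    rintro ⟨m, hm⟩
    obtain ⟨k, hk, -⟩ := (fr.norm_of hgi (hgV hgi)).2 m
    have hki : k ≠ i := by
      rintro rfl
      apply hm
      have e : Z m = Z j := by
        have h3 := congrArg (cj g) (hk.trans hi.symm)
        rwa [cj_cj_inv, cj_cj_inv] at h3
      by_contra hmj
      obtain ⟨z, hz, hz1⟩ := OM.Lev.Low.Line.exists_z fr m
      exact hz1 (OM.Lev.Low.Line.one_of fr (OM.Lev.Low.Line.ZW fr m hz)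
        (fr.WjC m j (fun e => hmj e) (OM.Lev.Low.Line.ZW fr j (e.le hz))))
    have h3 : cj g⁻¹ (Z m) ≤ C i := by
      rw [hk]
      exact (OM.Lev.Low.Line.ZW fr k).trans (fr.WjC i k hki.symm)
    have h4 := cj_mono g h3
    rwa [cj_cj_inv] at h4
  have h5 := mem_cj.1 (h2 h1)
  have e : g⁻¹ * (g * c * g⁻¹) * g = c := by group
  rw [e] at h5
  exact hcf i h5

/-- **An element of `Ω₁Z(S)` of full support.** -/
theorem exists_fullS : ∃ c ∈ zc (S : Subgroup G), ∀ i, c ∉ C i := by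
  obtain ⟨c, hc, hcf⟩ := OM.Lev.Low.Line.exists_full fr
  have uniq : ∀ c' ∈ ZK (S : Subgroup G) Q, (∀ i, c' ∉ C i) → c' = c := by
    intro c' hc' hcf'
    have h1 : c⁻¹ * c' = 1 := by
      refine fr.C0 _ (mul_mem (inv_mem (fr.ZJV hc)) (fr.ZJV hc')) fun i => ?_
      obtain ⟨w, hw, x, hx, -, e⟩ := fr.split_ZJ i hc
      obtain ⟨w', hw', x', hx', -, e'⟩ := fr.split_ZJ i hc'
      have hw1 : w ≠ 1 := by
        rintro rfl
        rw [one_mul] at e
        exact hcf i (e ▸ hx)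
      have hw1' : w' ≠ 1 := by
        rintro rfl
        rw [one_mul] at e'
        exact hcf' i (e' ▸ hx')
      have e2 := OM.Lev.Low.Line.Z_two fr hw hw1 hw' hw1'
      rw [e, e', e2]
      have e3 : (w' * x)⁻¹ * (w' * x') = x⁻¹ * x' := by group
      rw [e3]
      exact mul_mem (inv_mem hx) hx'
    exact (inv_mul_eq_one.1 h1).symm
  refine ⟨c, mem_zc.2 ⟨?_, ?_, fun s hs => ?_⟩, hcf⟩
  · exact h.lb.BS (h.lb.ZB hc)
  · exact h.lb.sq c hc
  · have hsN : s ∈ normalizer (BK (S : Subgroup G) Q : Set G) := h.lb.two_le S.isPGroup' h.lb.BS hs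
    have h1 := uniq _ ((mem_normalizer_iff.1 (h.lb.norm_B_le hsN) c).1 hc) (full_norm h fr zcQ hc hcf hsN)
    have h2 : s * c = c * s := by
      calc s * c = s * c * s⁻¹ * s := by group
        _ = c * s := by rw [h1]
    exact h2

/-- **The socket `BMH`**, without `c`. -/
theorem bmh_all (ho : OffM S V Q M) (hD : centralizer (ZK (S : Subgroup G) Q : Set G) ≤ M) (hL : ∀ i, L i ≤ M)
    (hN : normalizer (BK (S : Subgroup G) Q : Set G) ≤ M) :
    ∀ g ∈ normalizer (BK (S : Subgroup G) Q : Set G),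
      BMH (nxt (S : Subgroup G) Q) (BK (S : Subgroup G) Q) M (centralizer (cj g (zc (S : Subgroup G)) : Set G)) := by
  obtain ⟨c, hc, hcf⟩ := exists_fullS h fr zcQ
  exact bmh_top h fr zcQ ho hc hcf hD hL hN

end top

end Cfsg.Agent.Omega.NOThreeL.QWR.LowM

end

section


/-!
# THEOREM QW in box R (t = 1): the frame (OMEGA #27099 (II), #24897)

`P` a local group over `S` which contains `P*(S)` (in the application `P = M₀ = ⟨P*(S)⟩`), `L = V_P = zl S P`,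
`Q = QQ S P = C_S(L)` weakly closed in `S`, `Ω₁(Z(Q)) ≤ L`, `L` irreducible under `P` : `RQ S P`.

* `JJ S P = Q ⟨best offenders of S on L⟩`, `ZZ S P = C_L(JJ)`, `BB S P = C_S(ZZ)`;
* `WR S P T Y` : `Q ≤ T ≤ S`, `T` a Sylow 2-subgroup of the minimal parabolic `Y`, `O²(Y)` moves `L`, `Q ≰ O₂(Y)`,
  `J(S) ≤ O₂(Y)`;
* `DR S P Y` : the largest weakly closed subgroup of `S` in `Q ∩ O₂(Y)`; `GR S P Y = N_G(DR)`;
* the port of `NO3S/WY/{Frame,Cut}.lean` (helper498): `lev`, `P_le`, `Y_le`, `cvQ`, `cs`, `prin`, `not_low`, `cut`.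
-/

set_option autoImplicit false
set_option linter.unusedSectionVars false
set_option linter.dupNamespace false

namespace Cfsg.Agent.Omega.NOThreeL.QWR

open Subgroup Cfsg Cfsg.Agent.ZN Cfsg.Agent.ZN.ChoiceBase Cfsg.Agent.Omega.MinPar Cfsg.Agent.Omega.Frame
open Cfsg.Agent.ZN.ChoiceSit (Syl)
open Cfsg.Agent.MinSimple.MinParabolic (IsMinPar)
open Cfsg.Agent.Omega.FrameNOFF (CZ)
open Cfsg.Agent.Omega.NO3b.Wc (WC cj_sSup)
open Cfsg.Agent.Omega.NO3b.EZero (cl cl_le le_cl oddGen_sup_syl)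
open Cfsg.Agent.MinSimple.VModule (oddGen zc_le_zl)
open Cfsg.Agent.Omega.NO3S.Level
open Cfsg.Agent.Omega.NO3S.RedC (MaxMin exists_maxMin nff_of_noOff noOff_of)
open Cfsg.Agent.Omega.NOThreeL.MergeNF (NFRoot)
open Cfsg.Agent.Omega.NO1.BestOff (Best)
open Cfsg.Agent.Omega.FFThm (OffM ElemM)
open scoped Pointwise

universe u

variable {G : Type u} [Group G]

/-- `Q = C_S(V_P)` -/
def QQ (S P : Subgroup G) : Subgroup G := S ⊓ centralizer (zl S P : Set G)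

/-- `Q ⟨best offenders of S on V_P⟩` -/
def JJ (S P : Subgroup G) : Subgroup G := QQ S P ⊔ sSup {A | A ≤ S ∧ Best (zl S P) A}

/-- `Z_J` -/
def ZZ (S P : Subgroup G) : Subgroup G := zl S P ⊓ centralizer (JJ S P : Set G)

/-- `B = C_S(Z_J)` -/
def BB (S P : Subgroup G) : Subgroup G := S ⊓ centralizer (ZZ S P : Set G)

/-- The largest weakly closed subgroup of `S` in `Q ∩ O₂(Y)`. -/
def DR (S P Y : Subgroup G) : Subgroup G := sSup {B | WC S B ∧ B ≤ QQ S P ∧ B ≤ o2 Y}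

/-- `N_G(DR)` -/
def GR (S P Y : Subgroup G) : Subgroup G := normalizer (DR S P Y : Set G)

theorem QQ_le (S P : Subgroup G) : QQ S P ≤ S := inf_le_left

theorem QQ_cent (S P : Subgroup G) : QQ S P ≤ centralizer (zl S P : Set G) := inf_le_right

theorem JJ_le (S P : Subgroup G) : JJ S P ≤ S := sup_le inf_le_left (sSup_le fun _ h => h.1)

theorem le_JJ {S P A : Subgroup G} (h1 : A ≤ S) (h2 : Best (zl S P) A) : A ≤ JJ S P :=
  (le_sSup (show A ∈ {A | A ≤ S ∧ Best (zl S P) A} from ⟨h1, h2⟩)).trans le_sup_right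

theorem QQ_le_JJ (S P : Subgroup G) : QQ S P ≤ JJ S P := le_sup_left

theorem JJ_le_BB (S P : Subgroup G) : JJ S P ≤ BB S P := le_inf (JJ_le S P) (le_centralizer_iff.1 inf_le_right)

theorem QQ_le_BB (S P : Subgroup G) : QQ S P ≤ BB S P := (QQ_le_JJ S P).trans (JJ_le_BB S P)

theorem ZZ_le (S P : Subgroup G) : ZZ S P ≤ zl S P := inf_le_left

theorem wc_DR (S P Y : Subgroup G) : WC S (DR S P Y) := WC.sSup fun _ hb => hb.1

theorem DR_le (S P Y : Subgroup G) : DR S P Y ≤ S := (wc_DR S P Y).le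

theorem DR_le_Q (S P Y : Subgroup G) : DR S P Y ≤ QQ S P := sSup_le fun _ hb => hb.2.1

theorem DR_le_Y (S P Y : Subgroup G) : DR S P Y ≤ o2 Y := sSup_le fun _ hb => hb.2.2

theorem le_DR {S P Y B : Subgroup G} (hB : WC S B) (h1 : B ≤ QQ S P) (h2 : B ≤ o2 Y) : B ≤ DR S P Y :=
  le_sSup ⟨hB, h1, h2⟩

variable [Finite G]

theorem mem_GR {S P Y : Subgroup G} {g : G} (hg : cj g (DR S P Y) ≤ S) : g ∈ GR S P Y :=
  WC.mem_norm (wc_DR S P Y) hg

theorem norm_le_GR {S P Y T : Subgroup G} (h1 : DR S P Y ≤ T) (h2 : T ≤ S) : normalizer (T : Set G) ≤ GR S P Y :=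
  WC.norm_le (wc_DR S P Y) h1 h2

theorem S_le_GR (S P Y : Subgroup G) : S ≤ GR S P Y := le_normalizer.trans (norm_le_GR (DR_le S P Y) le_rfl)

theorem GR_norm (S P Y : Subgroup G) : GR S P Y ≤ normalizer (zc (DR S P Y) : Set G) := normalizer_le_zc _

/-- **(P_Y)** -/
theorem principle {S P Y : Subgroup G} {F : Set (Subgroup G)} (hF : ∀ A ∈ F, ∀ n ∈ GR S P Y, cj n A ∈ F)
    {A : Subgroup G} (hA : A ∈ F) (hAS : A ≤ S) (hAD : ¬ A ≤ DR S P Y) :
    ∃ B ∈ F, B ≤ S ∧ (¬ B ≤ QQ S P ∨ ¬ B ≤ o2 Y) := by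
  by_contra hcon
  have hcon' : ∀ B ∈ F, B ≤ S → B ≤ QQ S P ∧ B ≤ o2 Y := by
    intro B hB hBS
    by_contra h1
    exact hcon ⟨B, hB, hBS, not_and_or.1 h1⟩
  set K : Subgroup G := DR S P Y ⊔ sSup {B | B ∈ F ∧ B ≤ S} with hK
  have hKS : K ≤ S := sup_le (DR_le _ _ _) (sSup_le fun B hB => hB.2)
  have hKW : K ≤ DR S P Y := by
    refine le_DR ⟨hKS, fun g hg => ?_⟩ (sup_le (DR_le_Q _ _ _) (sSup_le fun B hB => (hcon' B hB.1 hB.2).1))
      (sup_le (DR_le_Y _ _ _) (sSup_le fun B hB => (hcon' B hB.1 hB.2).2))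
    have h2 : g ∈ GR S P Y := mem_GR ((cj_mono g le_sup_left).trans hg)
    have h4 : cj g K ≤ K := by
      change Subgroup.map _ _ ≤ _
      rw [hK, Subgroup.map_sup]
      refine sup_le_sup (cj_eq_of_mem_normalizer h2).le ?_
      change cj g (sSup {B | B ∈ F ∧ B ≤ S}) ≤ _
      rw [cj_sSup]
      refine iSup_le fun B => ?_
      have h5 : cj g (B : Subgroup G) ≤ S := (cj_mono g ((le_sSup B.2).trans le_sup_right)).trans hg
      exact le_sSup (a := cj g (B : Subgroup G)) ⟨hF _ B.2.1 g h2, h5⟩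
    exact Subgroup.eq_of_le_of_card_ge h4 (card_cj _ _).ge
  have h6 : A ≤ K := (le_sSup (s := {B | B ∈ F ∧ B ≤ S}) ⟨hA, hAS⟩).trans le_sup_right
  exact hAD (h6.trans hKW)

/-- A 2-group containing `DR` lies in `GR`. -/
theorem pgroup_le {S : Sylow 2 G} {P Y T : Subgroup G} (hT : IsPGroup 2 T) (h1 : DR (S : Subgroup G) P Y ≤ T) :
    T ≤ GR (S : Subgroup G) P Y := by
  obtain ⟨S', hS'⟩ := hT.exists_le_sylow
  obtain ⟨l, hl⟩ := MulAction.exists_smul_eq G S S'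
  have hl2 : (S' : Subgroup G) = cj l (S : Subgroup G) := by
    rw [← hl, Sylow.coe_subgroup_smul]; rfl
  rw [hl2] at hS'
  have h2 : cj l⁻¹ (DR (S : Subgroup G) P Y) ≤ (S : Subgroup G) := by
    have h3 := cj_mono l⁻¹ (h1.trans hS')
    rwa [cj_inv_cj] at h3
  have h3 : l ∈ GR (S : Subgroup G) P Y := by
    have := inv_mem (mem_GR h2 : l⁻¹ ∈ GR (S : Subgroup G) P Y)
    rwa [inv_inv] at this
  refine hS'.trans ?_
  have h4 := cj_mono l (S_le_GR (S : Subgroup G) P Y)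
  rwa [cj_eq_of_mem_normalizer (Subgroup.le_normalizer h3)] at h4

/-- `O₂(H) ≤ GR` for every `H ≥ DR`. -/
theorem o2_le_GR {S : Sylow 2 G} {P Y H : Subgroup G} (hY : DR (S : Subgroup G) P Y ≤ H) :
    o2 H ≤ GR (S : Subgroup G) P Y := by
  obtain ⟨T, hT, h1⟩ := ChoiceSit.exists_syl (S.isPGroup'.to_le (DR_le (S : Subgroup G) P Y)) hY
  exact (ChoiceSit.o2_le_syl hT).trans (pgroup_le hT.2.1 h1)

/-- **The frame**: `P ∈ L(S)` contains `P*(S)`, `L = V_P`. -/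
structure RQ (S : Sylow 2 G) (P : Subgroup G) : Prop where
  c2 : IsCharacteristicTwoType G
  zne : zc (S : Subgroup G) ≠ ⊥
  loc : IsLoc (S : Subgroup G) P
  nonloc : NonLoc P (CZ (S : Subgroup G))
  wc : WC (S : Subgroup G) (QQ (S : Subgroup G) P)
  jQ : jj (S : Subgroup G) ≤ QQ (S : Subgroup G) P
  PQ : P ≤ normalizer (QQ (S : Subgroup G) P : Set G)
  zQ : zc (QQ (S : Subgroup G) P) ≤ zl (S : Subgroup G) P
  low : zl (S : Subgroup G) P ≤ o2 (CZ (S : Subgroup G))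
  no : ∀ A : Subgroup G, A ≤ (S : Subgroup G) → ElemM (zl (S : Subgroup G) P) A →
    ¬ A ≤ centralizer (zl (S : Subgroup G) P : Set G) →
    Nat.card A * Nat.card ↥(zl (S : Subgroup G) P ⊓ centralizer (A : Set G)) ≤
      Nat.card (zl (S : Subgroup G) P) * Nat.card ↥(A ⊓ centralizer (zl (S : Subgroup G) P : Set G))
  irr : ∀ W : Subgroup G, W ≤ zl (S : Subgroup G) P → P ≤ normalizer (W : Set G) → W ≠ ⊥ → zl (S : Subgroup G) P ≤ W
  nr : ∀ R : Subgroup G, ¬ NFRoot (S : Subgroup G) R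

/-- **The situation**: `Y` weird. -/
structure WR (S : Sylow 2 G) (P T Y : Subgroup G) : Prop where
  rq : RQ S P
  TS : T ≤ (S : Subgroup G)
  QT : QQ (S : Subgroup G) P ≤ T
  syl : Syl T Y
  min : IsMinPar T Y
  c2 : Y ⊓ centralizer (o2 Y : Set G) ≤ o2 Y
  mvL : ¬ oddGen Y ≤ centralizer (zl (S : Subgroup G) P : Set G)
  nQ : ¬ QQ (S : Subgroup G) P ≤ o2 Y
  jY : jj (S : Subgroup G) ≤ o2 Y

/-- The module: `⟨Z^GR⟩ ≤ V ≤ Ω₁(Z(DR))`, normal in `GR`. -/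
structure Md (S : Sylow 2 G) (P Y V : Subgroup G) : Prop where
  ge : zl (S : Subgroup G) (GR (S : Subgroup G) P Y) ≤ V
  le : V ≤ zc (DR (S : Subgroup G) P Y)
  norm : GR (S : Subgroup G) P Y ≤ normalizer (V : Set G)

namespace WR

variable {S : Sylow 2 G} {P T Y : Subgroup G} (h : WR S P T Y)
include h

theorem hG : IsCharacteristicTwoType G := h.rq.c2

theorem L_zc : zl (S : Subgroup G) P ≤ zc (o2 P) := h.rq.loc.zl_le S h.hG

theorem o2P_le : o2 P ≤ (S : Subgroup G) := h.rq.loc.o2_le S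

theorem L_le_S : zl (S : Subgroup G) P ≤ (S : Subgroup G) := (h.L_zc.trans (ZN.zc_le _)).trans h.o2P_le

theorem L_sq : ∀ x ∈ zl (S : Subgroup G) P, x ^ 2 = 1 := fun _ hx => (ChoiceBase.mem_zc.1 (h.L_zc hx)).2.1

theorem SP : (S : Subgroup G) ≤ P := h.rq.loc.le

theorem T_Y : T ≤ Y := h.syl.1

theorem T2 : IsPGroup 2 T := h.syl.2.1

theorem o2Y_T : o2 Y ≤ T := ChoiceSit.o2_le_syl h.syl

theorem o2Y_le : o2 Y ≤ (S : Subgroup G) := h.o2Y_T.trans h.TS

theorem jD : jj (S : Subgroup G) ≤ DR (S : Subgroup G) P Y := le_DR (wc_jj S) h.rq.jQ h.jY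

/-- `DR` is a level. -/
theorem lev : Lev (S : Subgroup G) (DR (S : Subgroup G) P Y) where
  le := DR_le _ _ _
  jjle := h.jD
  norm := fun _ h1 h2 => norm_le_GR h1 h2

theorem cjQ {p : G} (hp : p ∈ P) : cj p (QQ (S : Subgroup G) P) = QQ (S : Subgroup G) P :=
  cj_eq_of_mem_normalizer (h.rq.PQ hp)

theorem P_le : P ≤ GR (S : Subgroup G) P Y := fun p hp =>
  mem_GR ((cj_mono p (DR_le_Q _ _ _)).trans ((h.cjQ hp).le.trans (QQ_le _ _)))

theorem Y_le : Y ≤ GR (S : Subgroup G) P Y := h.lev.le_norm_of_o2 (DR_le_Y _ _ _) h.o2Y_le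

theorem S_le : (S : Subgroup G) ≤ GR (S : Subgroup G) P Y := S_le_GR _ _ _

theorem DR_T : DR (S : Subgroup G) P Y ≤ T := (DR_le_Y _ _ _).trans h.o2Y_T

/-- `V_P ≤ Ω₁(Z(DR))` -/
theorem L_le : zl (S : Subgroup G) P ≤ zc (DR (S : Subgroup G) P Y) := fun x hx =>
  h.lev.mem_of_comm (h.L_le_S hx) (h.L_sq x hx) fun y hy =>
    (mem_centralizer_iff.1 (QQ_cent _ _ (DR_le_Q _ _ _ hy)) x hx).symm

theorem Z_le : zc (S : Subgroup G) ≤ zc (DR (S : Subgroup G) P Y) := h.lev.zc_le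

theorem D_cent : DR (S : Subgroup G) P Y ≤ centralizer (zc (DR (S : Subgroup G) P Y) : Set G) :=
  NO3S.Level.le_centralizer_zc _

theorem V_le_D : zc (DR (S : Subgroup G) P Y) ≤ DR (S : Subgroup G) P Y := ZN.zc_le _

theorem V_le_S : zc (DR (S : Subgroup G) P Y) ≤ (S : Subgroup G) := (ZN.zc_le _).trans (DR_le _ _ _)

theorem V_sq : ∀ v ∈ zc (DR (S : Subgroup G) P Y), v ^ 2 = 1 := fun _ hv => (ChoiceBase.mem_zc.1 hv).2.1

theorem V_comm : zc (DR (S : Subgroup G) P Y) ≤ centralizer (zc (DR (S : Subgroup G) P Y) : Set G) := fun _ hx =>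
  mem_centralizer_iff.2 fun _ hy => Lev.zc_comm hy hx

/-- `C_V(Q) ≤ V_P` -/
theorem cvQ : zc (DR (S : Subgroup G) P Y) ⊓ centralizer (QQ (S : Subgroup G) P : Set G) ≤ zl (S : Subgroup G) P := by
  refine le_trans ?_ h.rq.zQ
  rintro v ⟨hv, hvQ⟩
  exact ChoiceBase.mem_zc.2 ⟨DR_le_Q _ _ _ (ZN.zc_le _ hv), h.V_sq v hv, fun q hq => mem_centralizer_iff.1 hvQ q hq⟩

/-- `Y` moves `V_P`. -/
theorem not_norm_L : ¬ Y ≤ normalizer (zl (S : Subgroup G) P : Set G) := by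
  intro hYL
  have hYY : Y ≤ normalizer ((Y ⊓ centralizer (zl (S : Subgroup G) P : Set G) : Subgroup G) : Set G) :=
    NO3b.EZero.le_normalizer_inf_cent hYL
  rcases NO3b.K0.min_or h.syl h.min (K := Y ⊓ centralizer (zl (S : Subgroup G) P : Set G)) inf_le_left hYY with h2 | h2
  · exact h.mvL (h2.trans inf_le_right)
  · apply h.nQ
    exact (le_inf h.QT (le_inf (h.QT.trans h.T_Y) (QQ_cent _ _))).trans h2

/-- `C_S(V) ≤ O₂(Y)` for `V_P ≤ V`, `V` normal in `Y` -/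
theorem cs_le_Y {V : Subgroup G} (hV : Y ≤ normalizer (V : Set G)) (h1 : zl (S : Subgroup G) P ≤ V) :
    (S : Subgroup G) ⊓ centralizer (V : Set G) ≤ o2 Y := by
  have hT : (S : Subgroup G) ⊓ centralizer (V : Set G) ≤ T :=
    le_trans (inf_le_inf_left _ (centralizer_le h1)) h.QT
  have hYY : Y ≤ normalizer ((Y ⊓ centralizer (V : Set G) : Subgroup G) : Set G) :=
    NO3b.EZero.le_normalizer_inf_cent hV
  rcases NO3b.K0.min_or h.syl h.min (K := Y ⊓ centralizer (V : Set G)) inf_le_left hYY with h2 | h2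
  · exact absurd ((h2.trans inf_le_right).trans (centralizer_le h1)) h.mvL
  · exact (le_inf hT (le_inf (hT.trans h.T_Y) inf_le_right)).trans h2

/-- `C_S(V) = DR` for `V_P ≤ V ≤ Ω₁(Z(DR))`, `V` normal in `GR`. -/
theorem cs {V : Subgroup G} (h1 : zl (S : Subgroup G) P ≤ V) (h2 : V ≤ zc (DR (S : Subgroup G) P Y))
    (h3 : GR (S : Subgroup G) P Y ≤ normalizer (V : Set G)) :
    (S : Subgroup G) ⊓ centralizer (V : Set G) = DR (S : Subgroup G) P Y := by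
  have hK : DR (S : Subgroup G) P Y ≤ (S : Subgroup G) ⊓ centralizer (V : Set G) :=
    le_inf (DR_le _ _ _) (h.D_cent.trans (centralizer_le h2))
  refine le_antisymm (le_DR ⟨inf_le_left, fun g hg => ?_⟩ ?_ ?_) hK
  · have h4 : g ∈ GR (S : Subgroup G) P Y := mem_GR ((cj_mono g hK).trans hg)
    have h5 : cj g V = V := cj_eq_of_mem_normalizer (h3 h4)
    have h6 : cj g ((S : Subgroup G) ⊓ centralizer (V : Set G)) ≤ (S : Subgroup G) ⊓ centralizer (V : Set G) := by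
      refine le_inf hg ?_
      rw [cj_inf, cj_centralizer, h5]
      exact inf_le_right
    exact Subgroup.eq_of_le_of_card_ge h6 (card_cj _ _).ge
  · exact inf_le_inf_left _ (centralizer_le h1)
  · exact h.cs_le_Y (h.Y_le.trans h3) h1

/-- `⟨Z^GR⟩ ≤ Ω₁(Z(DR))`, `V_P ≤ ⟨Z^GR⟩` -/
theorem zl_GR_le : zl (S : Subgroup G) (GR (S : Subgroup G) P Y) ≤ zc (DR (S : Subgroup G) P Y) :=
  ZN.zl_le h.Z_le (GR_norm _ _ _)

theorem L_le_zl : zl (S : Subgroup G) P ≤ zl (S : Subgroup G) (GR (S : Subgroup G) P Y) :=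
  ZN.zl_le ZN.zc_le_zl (h.P_le.trans (ZN.le_normalizer_zl _ _))

theorem cs_zl : (S : Subgroup G) ⊓ centralizer (zl (S : Subgroup G) (GR (S : Subgroup G) P Y) : Set G) =
    DR (S : Subgroup G) P Y := h.cs h.L_le_zl h.zl_GR_le (ZN.le_normalizer_zl _ _)

/-- **(P_Y)** for 2-subgroups of `GR` which move `V`: a closed family has a member in `S` which is not in `Q`, or
all members in `S` lie in `Q`, and one of them is not in `O₂(Y)`. -/
theorem prin {V : Subgroup G} (h2 : V ≤ zc (DR (S : Subgroup G) P Y)) {B : Subgroup G}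
    (hB : B ≤ GR (S : Subgroup G) P Y) (hB2 : IsPGroup 2 B) (hne : ¬ B ≤ centralizer (V : Set G))
    {𝓕 : Set (Subgroup G)} (h𝓕 : ∀ A ∈ 𝓕, ∀ n ∈ GR (S : Subgroup G) P Y, cj n A ∈ 𝓕) (hB𝓕 : B ∈ 𝓕) :
    (∃ A ∈ 𝓕, A ≤ (S : Subgroup G) ∧ ¬ A ≤ QQ (S : Subgroup G) P) ∨
      ((∀ A ∈ 𝓕, A ≤ (S : Subgroup G) → A ≤ QQ (S : Subgroup G) P) ∧ ∃ A ∈ 𝓕, A ≤ QQ (S : Subgroup G) P ∧ ¬ A ≤ o2 Y) := by
  obtain ⟨n, hn, hnS⟩ := FFThm.exists_conj_le S h.S_le hB2 hB
  by_cases hP : ∃ A ∈ 𝓕, A ≤ (S : Subgroup G) ∧ ¬ A ≤ QQ (S : Subgroup G) P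
  · exact Or.inl hP
  · right
    push Not at hP
    have hnD : ¬ cj n B ≤ DR (S : Subgroup G) P Y := fun h1 => by
      have h3 := cj_mono n⁻¹ h1
      have hn' : n⁻¹ ∈ GR (S : Subgroup G) P Y := inv_mem hn
      have h4 : cj n⁻¹ (DR (S : Subgroup G) P Y) = DR (S : Subgroup G) P Y := cj_eq_of_mem_normalizer hn'
      rw [cj_inv_cj, h4] at h3
      exact hne (h3.trans (h.D_cent.trans (centralizer_le h2)))
    obtain ⟨A, hA, hAS, hor⟩ := principle (S := (S : Subgroup G)) (P := P) (Y := Y) (F := 𝓕) h𝓕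
      (A := cj n B) (h𝓕 B hB𝓕 n hn) hnS hnD
    exact ⟨hP, A, hA, hP A hA hAS, hor.resolve_left (not_not.2 (hP A hA hAS))⟩

theorem DR_ne : DR (S : Subgroup G) P Y ≠ ⊥ := by
  intro h1
  apply h.rq.zne
  have h2 : zc (S : Subgroup G) ≤ DR (S : Subgroup G) P Y := h.Z_le.trans (ZN.zc_le _)
  rw [h1] at h2
  exact le_bot_iff.1 h2

theorem DR_le_o2 : DR (S : Subgroup G) P Y ≤ o2 (GR (S : Subgroup G) P Y) :=
  MinSimple.VModule.le_o2 le_normalizer (S.isPGroup'.to_le (DR_le _ _ _)) le_rfl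

theorem isLoc_GR : IsLoc (S : Subgroup G) (GR (S : Subgroup G) P Y) := by
  refine ⟨S_le_GR _ _ _, fun h1 => h.DR_ne ?_⟩
  have h2 := h.DR_le_o2
  rw [h1] at h2
  exact le_bot_iff.1 h2

/-- If `⟨Z^GR⟩` is not FF, it is not in `O₂(C_G(Z))`. -/
theorem not_low (hn : NO3b.EZero.NotFF (zl (S : Subgroup G) (GR (S : Subgroup G) P Y))) :
    ¬ zl (S : Subgroup G) (GR (S : Subgroup G) P Y) ≤ o2 (CZ (S : Subgroup G)) := fun hlow =>
  h.rq.nr _
    { loc := h.isLoc_GR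
      cs := by
        rw [h.cs_zl]
        exact h.DR_le_o2
      low := hlow
      nff := hn
      nonloc := fun U hU h1 h2 => h.rq.nonloc U hU (h.P_le.trans h1) h2 }

variable {V : Subgroup G}

theorem md_zl : Md S P Y (zl (S : Subgroup G) (GR (S : Subgroup G) P Y)) :=
  ⟨le_rfl, h.zl_GR_le, ZN.le_normalizer_zl _ _⟩

theorem L_le_V (hV : Md S P Y V) : zl (S : Subgroup G) P ≤ V := h.L_le_zl.trans hV.ge

theorem Z_le_V (hV : Md S P Y V) : zc (S : Subgroup G) ≤ V := ZN.zc_le_zl.trans (h.L_le_V hV)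

theorem Vc (hV : Md S P Y V) : V ≤ centralizer (V : Set G) := hV.le.trans (h.V_comm.trans (centralizer_le hV.le))

theorem Vsq (hV : Md S P Y V) : ∀ x ∈ V, x ^ 2 = 1 := fun x hx => h.V_sq x (hV.le hx)

/-- If `⟨Z^GR⟩` is not FF, `Z` is bad in `V`. -/
theorem bad_Z (hV : Md S P Y V) (hn : NO3b.EZero.NotFF (zl (S : Subgroup G) (GR (S : Subgroup G) P Y))) :
    NOne.Flat.Bad V (zc (S : Subgroup G)) :=
  ⟨h.rq.zne, (MinSimple.VModule.zc_le_zl _ _).trans hV.ge, fun h1 => h.not_low hn (hV.ge.trans h1)⟩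

theorem exists_hyp (hV : Md S P Y V) (hn : NO3b.EZero.NotFF V) {F₀ : Subgroup G} (h0 : NOne.Flat.Bad V F₀) :
    ∃ F₁, F₀ ≤ F₁ ∧ NOne.Flat.Hyp V F₁ := by
  refine NOne.Flat.exists_hyp (h.Vc hV) (h.Vsq hV)
    (fun D _ hD => ?_) (fun _ hA => noOff_of hn hA) (fun D hne hD => ?_) h0
  · exact (o2_le_GR (h.D_cent.trans (centralizer_le (hD.trans hV.le)))).trans hV.norm
  · have hD2 : IsPGroup 2 D := S.isPGroup'.to_le (hD.trans (hV.le.trans h.V_le_S))
    exact NOne.LemmaT.char2_of_normal (MinSimple.Basic.char2_normalizer h.hG hD2 hne)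
      (centralizer_le_normalizer _)
      (normalizer_le_of_cj (F := fun T => centralizer (T : Set G)) (fun g T => (cj_centralizer g T).symm) D)

theorem W_le_GR (hV : Md S P Y V) {F : Subgroup G} (hF : NOne.Flat.Hyp V F) :
    NOne.Flat.WW V F ≤ GR (S : Subgroup G) P Y :=
  NOne.Flat.Hyp.W_le_R.trans (o2_le_GR (h.D_cent.trans (centralizer_le (hF.F_le_V.trans hV.le))))

end WR

end Cfsg.Agent.Omega.NOThreeL.QWR

end

section


/-!
# THEOREM QW in box R (t = 1): steps (1), (5), the exact groups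

The port of `CaseLW/QWc.lean` (helper498) to `WR S P T Y`.

* `max_le` : **(1)** `f(A) ≤ |U|` for all `A ≤ T` under **(neg)**; `ex_le_o2`, `ex_exact`, `ex_cut`, `ex_cj`, `ex_le_BB`,
  `ex_cent_ZJ`;
* `her_best`, `cent_cut`, `best_cut` : `A` best on `V`, exact on `L ≤ V`: `C_V(C_A(L)) = L C_V(A)`, `C_A(L)` is best on `V`;
* `W_L_E`, `W_le_BB`, `ZZ_le_F` : the groups `W_F ≤ S`.
-/

set_option autoImplicit false
set_option linter.unusedSectionVars false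
set_option linter.dupNamespace false

namespace Cfsg.Agent.Omega.NOThreeL.QWR

open Subgroup Cfsg Cfsg.Agent.ZN Cfsg.Agent.ZN.ChoiceBase Cfsg.Agent.Omega.MinPar Cfsg.Agent.Omega.Frame
open Cfsg.Agent.Omega.FrameNOFF (CZ)
open Cfsg.Agent.Omega.NO3b.EZero (cl cl_le le_cl cj_le_cl le_normalizer_cl)
open Cfsg.Agent.Omega.NO3S.Level
open Cfsg.Agent.Omega.NO3S.RedC (MaxMin exists_maxMin nff_of_noOff noOff_of)
open Cfsg.Agent.Omega.NO3S.WY (bestW elemW hyp_cj WW_cj best_mono)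
open Cfsg.Agent.Omega.NO3S.CaseLW.QWc (fM_mul_le le_fM_iff_rel fM_le_iff_rel elem_le le_fM_of_best Neg Neg.of_best Ex Ex.of_rel
  Ex.of_best Ex.of_cent exists_line)
open Cfsg.Agent.Omega.NO1.BestOff (Best)
open Cfsg.Agent.Omega.FFThm (OffM ElemM)
open Cfsg.Agent.Omega.NOThreeL.VF (fM fM_le fM_cj fM_of_le le_fM_iff fM_le_iff fM_mul card_eq_rel card_mul_card_le
  elemM_cj elemM_mono)
open scoped Pointwise

universe u

variable {G : Type u} [Group G] [Finite G]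

/-! ### (1) -/

section one

variable {S : Sylow 2 G} {P T Y A : Subgroup G} (h : WR S P T Y)
include h

theorem U_le_zl : cl (zl (S : Subgroup G) P) Y ≤ zl (S : Subgroup G) (GR (S : Subgroup G) P Y) :=
  cl_le fun y hy => by
    have h1 := cj_mono y h.L_le_zl
    rwa [cj_eq_of_mem_normalizer (ZN.le_normalizer_zl _ _ (h.Y_le hy))] at h1

theorem U_le {V : Subgroup G} (hV : Md S P Y V) : cl (zl (S : Subgroup G) P) Y ≤ V := (U_le_zl h).trans hV.ge

theorem U_comm : cl (zl (S : Subgroup G) P) Y ≤ centralizer (cl (zl (S : Subgroup G) P) Y : Set G) :=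
  ((U_le h h.md_zl).trans (h.Vc h.md_zl)).trans (centralizer_le (U_le h h.md_zl))

/-- `C_T(U) ≤ O₂(Y)` -/
theorem cent_le (hA : A ≤ T) (hc : A ≤ centralizer (cl (zl (S : Subgroup G) P) Y : Set G)) : A ≤ o2 Y :=
  (le_inf (hA.trans h.TS) hc).trans (h.cs_le_Y (le_normalizer_cl _ _) (le_cl _ _))

theorem cj_le_o2 (hA : A ≤ o2 Y) {y : G} (hy : y ∈ Y) : cj y A ≤ o2 Y := by
  have h1 := cj_mono y hA
  rwa [cj_eq_of_mem_normalizer (ZN.le_normalizer_o2 _ hy)] at h1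

/-- `A ≤ O₂(Y)` is no over-offender on `L^y`. -/
theorem noOver (hA : A ≤ o2 Y) (hE : ElemM (cl (zl (S : Subgroup G) P) Y) A) {y : G} (hy : y ∈ Y) :
    Nat.card A * Nat.card ↥(cj y (zl (S : Subgroup G) P) ⊓ centralizer (A : Set G)) ≤
      Nat.card (cj y (zl (S : Subgroup G) P)) *
        Nat.card ↥(A ⊓ centralizer (cj y (zl (S : Subgroup G) P) : Set G)) := by
  have hy' : y⁻¹ ∈ Y := Y.inv_mem hy
  by_cases hc : A ≤ centralizer (cj y (zl (S : Subgroup G) P) : Set G)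
  · rw [inf_eq_left.2 hc, mul_comm]
    exact Nat.mul_le_mul_right _ (card_le_of_le inf_le_left)
  have hUn : cj y⁻¹ (cl (zl (S : Subgroup G) P) Y) = cl (zl (S : Subgroup G) P) Y :=
    cj_eq_of_mem_normalizer (le_normalizer_cl _ _ hy')
  have hE' : ElemM (zl (S : Subgroup G) P) (cj y⁻¹ A) :=
    elem_le (elemM_cj (le_normalizer_cl _ _ hy') hE) (le_cl _ _)
  have e1 : cj y⁻¹ (cj y (zl (S : Subgroup G) P) ⊓ centralizer (A : Set G)) =
      zl (S : Subgroup G) P ⊓ centralizer (cj y⁻¹ A : Set G) := by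
    rw [cj_inf, cj_inv_cj, cj_centralizer]
  have e2 : cj y⁻¹ (A ⊓ centralizer (cj y (zl (S : Subgroup G) P) : Set G)) =
      cj y⁻¹ A ⊓ centralizer (zl (S : Subgroup G) P : Set G) := by
    rw [cj_inf, cj_centralizer, cj_inv_cj]
  have hne : ¬ cj y⁻¹ A ≤ centralizer (zl (S : Subgroup G) P : Set G) := fun h1 => hc (by
    have h2 := cj_mono y h1
    rwa [cj_cj_inv, cj_centralizer] at h2)
  have h3 := h.rq.no _ ((cj_le_o2 h hA hy').trans h.o2Y_le) hE' hne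
  rw [← e1, ← e2, card_cj, card_cj, card_cj] at h3
  rw [card_cj]
  exact h3

/-- **(1)** : `f(A) ≤ |U|` -/
theorem max_le (neg : Neg T Y (cl (zl (S : Subgroup G) P) Y)) (hA : A ≤ T)
    (hE : ElemM (cl (zl (S : Subgroup G) P) Y) A) :
    fM (cl (zl (S : Subgroup G) P) Y) A ≤ Nat.card (cl (zl (S : Subgroup G) P) Y) := by
  set U := cl (zl (S : Subgroup G) P) Y with hU
  by_contra hcon
  rw [not_le] at hcon
  let 𝒞 : Set (Subgroup G) := {D | D ≤ T ∧ ElemM U D}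
  obtain ⟨B₁, hB₁, hmax⟩ := Set.exists_max_image 𝒞 (fM U) (Set.toFinite _) ⟨A, hA, hE⟩
  obtain ⟨B, ⟨hB, hBf⟩, hmin⟩ := Set.exists_min_image {B | B ∈ 𝒞 ∧ fM U B = fM U B₁}
    (fun B => (centralizer (U : Set G)).relIndex B) (Set.toFinite _) ⟨B₁, hB₁, rfl⟩
  have hB1 : Nat.card U < fM U B := by
    rw [hBf]
    exact hcon.trans_le (hmax A ⟨hA, hE⟩)
  have hne : ¬ B ≤ centralizer (U : Set G) := fun h1 => by
    rw [fM_of_le h1] at hB1
    exact lt_irrefl _ hB1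
  have hBY : B ≤ o2 Y := neg B hB.1 hB.2 (fun D hD hDE => by rw [hBf]; exact hmax D ⟨hD, hDE⟩) hne
  obtain ⟨y, hy, hyB⟩ := exists_line hne
  have hyU : cj y (zl (S : Subgroup G) P) ≤ U := cj_le_cl hy
  have hle := fM_le hyU (noOver h hBY hB.2 hy)
  set B₀ : Subgroup G := B ⊓ centralizer (cj y (zl (S : Subgroup G) P) : Set G) with hB₀
  have hB₀C : B₀ ∈ 𝒞 := ⟨inf_le_left.trans hB.1, elemM_mono hB.2 inf_le_left⟩
  have h2 : fM U B₀ = fM U B₁ := le_antisymm (hmax B₀ hB₀C) (hBf ▸ hle)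
  have h3 := hmin B₀ ⟨hB₀C, h2⟩
  have e4 : B₀ ⊓ centralizer (U : Set G) = B ⊓ centralizer (U : Set G) := by
    rw [hB₀, inf_assoc, inf_eq_right.2 (centralizer_le (s := (cj y (zl (S : Subgroup G) P) : Set G)) hyU)]
  have h4 : Nat.card B ≤ Nat.card B₀ := by
    rw [card_eq_rel U B, card_eq_rel U B₀, e4]
    exact Nat.mul_le_mul_right _ h3
  have h5 : B₀ = B := Subgroup.eq_of_le_of_card_ge inf_le_left h4
  exact hyB (inf_eq_left.1 h5)

variable (neg : Neg T Y (cl (zl (S : Subgroup G) P) Y)) (x : Ex T (cl (zl (S : Subgroup G) P) Y) A)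
include neg x

theorem ex_le_o2 : A ≤ o2 Y := by
  by_cases hc : A ≤ centralizer (cl (zl (S : Subgroup G) P) Y : Set G)
  · exact cent_le h x.le hc
  · exact neg A x.le x.elem (fun D hD hDE => (max_le h neg hD hDE).trans x.f) hc

theorem ex_eq : fM (cl (zl (S : Subgroup G) P) Y) A = Nat.card (cl (zl (S : Subgroup G) P) Y) :=
  le_antisymm (max_le h neg x.le x.elem) x.f

/-- `C_A(L^y)` is exact too. -/
theorem ex_cut {y : G} (hy : y ∈ Y) :
    Ex T (cl (zl (S : Subgroup G) P) Y) (A ⊓ centralizer (cj y (zl (S : Subgroup G) P) : Set G)) where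
  le := inf_le_left.trans x.le
  elem := elemM_mono x.elem inf_le_left
  f := x.f.trans (fM_le (cj_le_cl hy) (noOver h (ex_le_o2 h neg x) x.elem hy))

/-- **exactness on `L^y`** -/
theorem ex_exact {y : G} (hy : y ∈ Y) :
    (centralizer (cj y (zl (S : Subgroup G) P) : Set G)).relIndex A =
      (centralizer (A : Set G)).relIndex (cj y (zl (S : Subgroup G) P)) := by
  refine le_antisymm (FFThm.relIndex_le_iff.1 (noOver h (ex_le_o2 h neg x) x.elem hy)) ?_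
  have h1 := fM_mul_le (U := cl (zl (S : Subgroup G) P) Y) (A := A) (cj_le_cl hy : cj y (zl (S : Subgroup G) P) ≤ _)
  rw [ex_eq h neg x, ex_eq h neg (ex_cut h neg x hy)] at h1
  exact Nat.le_of_mul_le_mul_left h1 Nat.card_pos

/-- `L` itself -/
theorem ex_exact_one : (centralizer (zl (S : Subgroup G) P : Set G)).relIndex A =
    (centralizer (A : Set G)).relIndex (zl (S : Subgroup G) P) := by
  have h1 := ex_exact h neg x (y := 1) Y.one_mem
  rwa [cj_one] at h1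

theorem ex_cj {y : G} (hy : y ∈ Y) : Ex T (cl (zl (S : Subgroup G) P) Y) (ChoiceBase.cj y A) where
  le := (cj_le_o2 h (ex_le_o2 h neg x) hy).trans h.o2Y_T
  elem := elemM_cj (le_normalizer_cl _ _ hy) x.elem
  f := by
    rw [(fM_cj (A := A) (le_normalizer_cl (zl (S : Subgroup G) P) Y hy)).1]
    exact x.f

/-- an exact `A` is a best offender on `L` (or centralises it) -/
theorem ex_best : Best (zl (S : Subgroup G) P) A := by
  have hE : ElemM (zl (S : Subgroup G) P) A := elem_le x.elem (le_cl _ _)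
  refine { toElemM := hE, max := fun D hD hc => ?_ }
  have e : D ⊓ centralizer (zl (S : Subgroup G) P : Set G) = A ⊓ centralizer (zl (S : Subgroup G) P : Set G) :=
    le_antisymm (inf_le_inf_right _ hD) (le_inf hc inf_le_right)
  have hno := noOver h (hD.trans (ex_le_o2 h neg x)) (elemM_mono x.elem hD) (y := 1) Y.one_mem
  rw [cj_one, e] at hno
  exact hno.trans (FFThm.relIndex_le_iff.2 (ex_exact_one h neg x).ge)

theorem ex_le_JJ : A ≤ JJ (S : Subgroup G) P := le_JJ (x.le.trans h.TS) (ex_best h neg x)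

theorem ex_le_BB : A ≤ BB (S : Subgroup G) P := (ex_le_JJ h neg x).trans (JJ_le_BB _ _)

/-- an exact `A` centralises `⟨Z_J^Y⟩` -/
theorem ex_cent_ZJ : A ≤ centralizer (cl (ZZ (S : Subgroup G) P) Y : Set G) := by
  refine le_centralizer_iff.1 (cl_le fun y hy => le_centralizer_iff.1 ?_)
  have h1 := (ex_le_BB h neg (ex_cj h neg x (Y.inv_mem hy))).trans inf_le_right
  have h2 := cj_mono y h1
  rwa [cj_cj_inv, cj_centralizer] at h2

end one

/-! ### best offenders on `V`, exact on `L` -/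

section best

variable {V L A : Subgroup G}

/-- the counting: `|A| |C_V(A)| |L ∩ C(A)| ≤ |C_A(L)| |L C_V(A)| |L ∩ C(A)|` -/
theorem count_cut (hLV : L ≤ V) (hVc : V ≤ centralizer (V : Set G))
    (hex : (centralizer (L : Set G)).relIndex A ≤ (centralizer (A : Set G)).relIndex L) :
    Nat.card A * Nat.card ↥(V ⊓ centralizer (A : Set G)) ≤
      Nat.card ↥(A ⊓ centralizer (L : Set G)) * Nat.card ↥(L ⊔ V ⊓ centralizer (A : Set G) : Subgroup G) := by
  set K : Subgroup G := V ⊓ centralizer (A : Set G) with hK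
  have e1 : Nat.card ↥(A ⊓ centralizer (L : Set G)) * (centralizer (L : Set G)).relIndex A = Nat.card A := by
    have e0 := NOne.Flat.card_mul_relIndex' (inf_le_left : A ⊓ centralizer (L : Set G) ≤ A)
    rwa [inf_relIndex_left] at e0
  have hLK : L ≤ normalizer (K : Set G) :=
    (hLV.trans (hVc.trans (centralizer_le (inf_le_left : K ≤ V)))).trans (centralizer_le_normalizer _)
  have e2 := NOne.Flat.Off.card_sup_mul_inf hLK
  have e3 : L ⊓ K = L ⊓ centralizer (A : Set G) := by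
    rw [hK, ← inf_assoc, inf_eq_left.2 hLV]
  rw [e3] at e2
  have e4 := NOne.Flat.card_mul_relIndex' (inf_le_left : L ⊓ centralizer (A : Set G) ≤ L)
  rw [inf_relIndex_left] at e4
  have hp : 0 < Nat.card ↥(L ⊓ centralizer (A : Set G)) := Nat.card_pos
  refine Nat.le_of_mul_le_mul_right ?_ hp
  calc Nat.card A * Nat.card K * Nat.card ↥(L ⊓ centralizer (A : Set G))
      = Nat.card ↥(A ⊓ centralizer (L : Set G)) * (centralizer (L : Set G)).relIndex A * Nat.card K *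
          Nat.card ↥(L ⊓ centralizer (A : Set G)) := by rw [e1]
    _ ≤ Nat.card ↥(A ⊓ centralizer (L : Set G)) * (centralizer (A : Set G)).relIndex L * Nat.card K *
          Nat.card ↥(L ⊓ centralizer (A : Set G)) :=
        Nat.mul_le_mul_right _ (Nat.mul_le_mul_right _ (Nat.mul_le_mul_left _ hex))
    _ = Nat.card ↥(A ⊓ centralizer (L : Set G)) *
          (Nat.card ↥(L ⊓ centralizer (A : Set G)) * (centralizer (A : Set G)).relIndex L) * Nat.card K := by ring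
    _ = Nat.card ↥(A ⊓ centralizer (L : Set G)) * (Nat.card L * Nat.card K) := by rw [e4]; ring
    _ = Nat.card ↥(A ⊓ centralizer (L : Set G)) * (Nat.card ↥(L ⊔ K : Subgroup G) *
          Nat.card ↥(L ⊓ centralizer (A : Set G))) := by rw [e2]
    _ = _ := by ring

theorem sup_le_cut (hLV : L ≤ V) : L ⊔ V ⊓ centralizer (A : Set G) ≤
    V ⊓ centralizer ((A ⊓ centralizer (L : Set G) : Subgroup G) : Set G) :=
  sup_le (le_inf hLV (le_centralizer_iff.1 inf_le_right)) (inf_le_inf_left _ (centralizer_le inf_le_left))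

/-- `C_V(C_A(L)) = L C_V(A)` -/
theorem cent_cut (hA : Best V A) (hLV : L ≤ V) (hVc : V ≤ centralizer (V : Set G))
    (hex : (centralizer (L : Set G)).relIndex A ≤ (centralizer (A : Set G)).relIndex L) :
    V ⊓ centralizer ((A ⊓ centralizer (L : Set G) : Subgroup G) : Set G) = L ⊔ V ⊓ centralizer (A : Set G) := by
  symm
  refine Subgroup.eq_of_le_of_card_ge (sup_le_cut hLV) ?_
  have h1 := hA.max (A ⊓ centralizer (L : Set G)) inf_le_left (inf_le_inf_left _ (centralizer_le hLV))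
  have h2 := h1.trans (count_cut hLV hVc hex)
  exact Nat.le_of_mul_le_mul_left h2 Nat.card_pos

/-- `C_A(L)` is best on `V`. -/
theorem best_cut (hA : Best V A) (hLV : L ≤ V) (hVc : V ≤ centralizer (V : Set G))
    (hex : (centralizer (L : Set G)).relIndex A ≤ (centralizer (A : Set G)).relIndex L) :
    Best V (A ⊓ centralizer (L : Set G)) where
  toElemM := elemM_mono hA.toElemM inf_le_left
  max := fun D hD hc => by
    have e : A ⊓ centralizer (V : Set G) ≤ D :=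
      (le_inf (inf_le_inf_left _ (centralizer_le hLV)) inf_le_right).trans hc
    refine (hA.max D (hD.trans inf_le_left) e).trans ((count_cut hLV hVc hex).trans ?_)
    exact Nat.mul_le_mul_left _ (card_le_of_le (sup_le_cut hLV))

/-- `v ∈ L K`, `x` normalises `L` and centralises `K` : `[x, v] ∈ L` -/
theorem comm_mem_of {K : Subgroup G} (hLK : ∀ l ∈ L, ∀ k ∈ K, l * k = k * l) {v x : G} (hv : v ∈ L ⊔ K)
    (hxL : x ∈ normalizer (L : Set G)) (hxK : ∀ k ∈ K, x * k = k * x) : x * v * x⁻¹ * v⁻¹ ∈ L := by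
  obtain ⟨l, hl, f, hf, rfl⟩ := SQ1.Bau.mem_sup_comm hLK hv
  have h1 : x * f = f * x := hxK f hf
  have h3 : x * l * x⁻¹ ∈ L := (mem_normalizer_iff.1 hxL l).1 hl
  have e : x * (l * f) * x⁻¹ * (l * f)⁻¹ = (x * l * x⁻¹) * l⁻¹ := by
    have h4 : f * x⁻¹ = x⁻¹ * f := by
      have : x⁻¹ * (x * f) * x⁻¹ = x⁻¹ * (f * x) * x⁻¹ := by rw [h1]
      simpa [mul_assoc] using this
    calc x * (l * f) * x⁻¹ * (l * f)⁻¹ = x * l * (f * x⁻¹) * f⁻¹ * l⁻¹ := by group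
      _ = x * l * (x⁻¹ * f) * f⁻¹ * l⁻¹ := by rw [h4]
      _ = _ := by group
  rw [e]
  exact mul_mem h3 (inv_mem hl)

end best

/-! ### the groups `W_F ≤ S` -/

section W

variable {S : Sylow 2 G} {P T Y V F : Subgroup G} (h : WR S P T Y) (hV : Md S P Y V) (hF : NOne.Flat.Hyp V F)
  (hW : NOne.Flat.WW V F ≤ (S : Subgroup G))
include h hV hF hW

theorem zc_le_F : zc (S : Subgroup G) ≤ F := NO3S.BetaFF.zc_le_F hF (h.Z_le_V hV) hW

/-- `V_P ≤ E_F` -/
theorem L_le_E : zl (S : Subgroup G) P ≤ NOne.Flat.EE V F :=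
  NO3S.BetaFF.le_EE_of_low hF (h.L_le_V hV) (zc_le_F h hV hF hW) h.rq.low

theorem W_le_JJ : NOne.Flat.WW V F ≤ JJ (S : Subgroup G) P := le_JJ hW (bestW hF (L_le_E h hV hF hW))

theorem W_le_BB : NOne.Flat.WW V F ≤ BB (S : Subgroup G) P := (W_le_JJ h hV hF hW).trans (JJ_le_BB _ _)

/-- `Z_J ≤ F` -/
theorem ZZ_le_F : ZZ (S : Subgroup G) P ≤ F := by
  rw [← hF.cent_VW]
  exact le_inf ((ZZ_le _ _).trans (h.L_le_V hV)) (le_centralizer_iff.1 ((W_le_BB h hV hF hW).trans inf_le_right))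

/-- A subgroup of `V ∩ O₂(C_G(Z_J))` lies in `E_F`. -/
theorem le_E {U : Subgroup G} (hU : U ≤ V) (hUO : U ≤ o2 (centralizer (ZZ (S : Subgroup G) P : Set G))) :
    U ≤ NOne.Flat.EE V F := NO3S.BetaFF.le_EE_of_low hF hU (ZZ_le_F h hV hF hW) hUO

/-- **exactness of `W_F` on `L`** -/
theorem hexW : (centralizer (zl (S : Subgroup G) P : Set G)).relIndex (NOne.Flat.WW V F) ≤
    (centralizer (NOne.Flat.WW V F : Set G)).relIndex (zl (S : Subgroup G) P) := by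
  by_cases hc : NOne.Flat.WW V F ≤ centralizer (zl (S : Subgroup G) P : Set G)
  · rw [relIndex_eq_one.2 hc]
    exact Nat.one_le_iff_ne_zero.2 index_ne_zero_of_finite
  · exact FFThm.relIndex_le_iff.1 (h.rq.no _ hW (elemW hF (h.L_le_V hV)) hc)

end W

/-! ### transport to `P`-conjugates -/

section cjP

variable {S : Sylow 2 G} {P T Y V A : Subgroup G} (h : WR S P T Y) (hV : Md S P Y V)
include h hV

theorem PV : P ≤ normalizer (V : Set G) := h.P_le.trans hV.norm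

theorem cj_L {p : G} (hp : p ∈ P) : cj p (zl (S : Subgroup G) P) = zl (S : Subgroup G) P :=
  cj_eq_of_mem_normalizer (ZN.le_normalizer_zl _ _ hp)

theorem cj_cut {p : G} (hp : p ∈ P) : cj p (A ⊓ centralizer (zl (S : Subgroup G) P : Set G)) =
    cj p A ⊓ centralizer (zl (S : Subgroup G) P : Set G) := by
  rw [cj_inf, cj_centralizer, cj_L h hV hp]

/-- the same for `A^p` -/
theorem hex_cj (hex : (centralizer (zl (S : Subgroup G) P : Set G)).relIndex A ≤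
      (centralizer (A : Set G)).relIndex (zl (S : Subgroup G) P)) {p : G} (hp : p ∈ P) :
    (centralizer (zl (S : Subgroup G) P : Set G)).relIndex (cj p A) ≤
    (centralizer (cj p A : Set G)).relIndex (zl (S : Subgroup G) P) := by
  have h1 := FFThm.relIndex_le_iff.2 hex
  have e1 : zl (S : Subgroup G) P ⊓ centralizer (cj p A : Set G) =
      cj p (zl (S : Subgroup G) P ⊓ centralizer (A : Set G)) := by
    rw [cj_inf, cj_centralizer, cj_L h hV hp]
  refine FFThm.relIndex_le_iff.1 ?_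
  rw [← cj_cut h hV hp, e1, card_cj, card_cj, card_cj]
  exact h1

/-- `C_A(L)^p ≤ Q ≤ T` for `A ≤ S` -/
theorem cj_cut_le (hA : A ≤ (S : Subgroup G)) {p : G} (hp : p ∈ P) :
    cj p (A ⊓ centralizer (zl (S : Subgroup G) P : Set G)) ≤ T := by
  have h1 : A ⊓ centralizer (zl (S : Subgroup G) P : Set G) ≤ QQ (S : Subgroup G) P := inf_le_inf_right _ hA
  exact (cj_mono p h1).trans ((h.cjQ hp).le.trans h.QT)

theorem best_cjV {g : G} (hg : g ∈ normalizer (V : Set G)) (hA : Best V A) : Best V (cj g A) where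
  toElemM := elemM_cj hg hA.toElemM
  max := fun D hD hc => by
    have hg' : g⁻¹ ∈ normalizer (V : Set G) := inv_mem hg
    have e1 : V ⊓ centralizer (cj g A : Set G) = cj g (V ⊓ centralizer (A : Set G)) := by
      rw [cj_inf, cj_centralizer, cj_eq_of_mem_normalizer hg]
    have e2 : V ⊓ centralizer (D : Set G) = cj g (V ⊓ centralizer (cj g⁻¹ D : Set G)) := by
      rw [cj_inf, cj_centralizer, cj_eq_of_mem_normalizer hg, cj_cj_inv]
    have h1 : cj g⁻¹ D ≤ A := by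
      have := cj_mono g⁻¹ hD
      rwa [cj_inv_cj] at this
    have h2 : A ⊓ centralizer (V : Set G) ≤ cj g⁻¹ D := by
      have h3 := cj_mono g⁻¹ hc
      rwa [cj_inf, cj_inv_cj, cj_centralizer, cj_eq_of_mem_normalizer hg'] at h3
    have h3 := hA.max _ h1 h2
    rw [e1, e2, card_cj, card_cj, card_cj]
    rw [card_cj] at h3
    exact h3

end cjP

end Cfsg.Agent.Omega.NOThreeL.QWR

end

section


/-!
# THEOREM QW in box R (t = 1), the end (OMEGA #27099 (II), #24897)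

`WR S P T Y`, `C_S(Z_J) ≤ T`, `L = V_P`, `U = ⟨L^Y⟩`, `C_G(Z_J), P ≤ M`, `O²(Y)` moves `Z_J`, `U ≤ O₂(M)`.  Then **(neg)** is
false (`not_neg`): some best offender `A ≤ T` on `U` does not lie in `O₂(Y)` (`exists_best`, `exists_best_of`).

* `Fam S P T Y U 𝓦` : a `P`-invariant family whose members `A ≤ S` are exact on `U`, `C_A(L)^p` too (`p ∈ P`), and
  `[C_U(C_A(L)^p), A^p] ≤ L`; `Fam.of_best` : the best offenders on `⟨Z^GR⟩`; `Fam.of_W` : the groups `W_F`;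
* `Fam.false` : **(6)** no family has an active member (`A ≤ S`, `A ≰ Q`).
-/

set_option autoImplicit false
set_option linter.unusedSectionVars false
set_option linter.dupNamespace false

namespace Cfsg.Agent.Omega.NOThreeL.QWR

open Subgroup Cfsg Cfsg.Agent.ZN Cfsg.Agent.ZN.ChoiceBase Cfsg.Agent.Omega.MinPar Cfsg.Agent.Omega.Frame
open Cfsg.Agent.Omega.FrameNOFF (CZ)
open Cfsg.Agent.ZN.ChoiceSit (Syl)
open Cfsg.Agent.MinSimple.VModule (oddGen)
open Cfsg.Agent.Omega.NO3b.EZero (cl cl_le le_cl cj_le_cl le_normalizer_cl oddGen_sup_syl)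
open Cfsg.Agent.Omega.NO3S.Level
open Cfsg.Agent.Omega.NO3S.RedC (MaxMin exists_maxMin nff_of_noOff noOff_of)
open Cfsg.Agent.Omega.NO3S.WY (bestW elemW hyp_cj WW_cj best_mono cent_AF best_AF)
open Cfsg.Agent.Omega.NO3S.CaseLW.QWc (Neg Neg.of_best Ex Ex.of_rel Ex.of_best Ex.of_cent elem_le le_fM_of_best)
open Cfsg.Agent.Omega.NO3S.CaseLW.QWd (KK le_KK)
open Cfsg.Agent.Omega.NO1.BestOff (Best)
open Cfsg.Agent.Omega.FFThm (OffM ElemM)
open Cfsg.Agent.Omega.NOThreeL.VF (le_fM_iff elemM_mono)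
open scoped Pointwise

universe u

variable {G : Type u} [Group G] [Finite G]

/-- An exact family. -/
structure Fam (S : Sylow 2 G) (P T U : Subgroup G) (𝓦 : Set (Subgroup G)) : Prop where
  inv : ∀ A ∈ 𝓦, ∀ p ∈ P, cj p A ∈ 𝓦
  ex : ∀ A ∈ 𝓦, A ≤ (S : Subgroup G) → Ex T U A
  cut : ∀ A ∈ 𝓦, A ≤ (S : Subgroup G) → ∀ p ∈ P, Ex T U (cj p (A ⊓ centralizer (zl (S : Subgroup G) P : Set G)))
  comm : ∀ A ∈ 𝓦, A ≤ (S : Subgroup G) → ∀ p ∈ P, ∀ v ∈ U,
    v ∈ centralizer (cj p (A ⊓ centralizer (zl (S : Subgroup G) P : Set G)) : Set G) →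
    ∀ x ∈ cj p A, x * v * x⁻¹ * v⁻¹ ∈ zl (S : Subgroup G) P

section

variable {S : Sylow 2 G} {P T Y : Subgroup G} (h : WR S P T Y) (neg : Neg T Y (cl (zl (S : Subgroup G) P) Y))
include h neg

theorem KK_le : KK T (cl (zl (S : Subgroup G) P) Y) ≤ o2 Y := sSup_le fun _ x => ex_le_o2 h neg x

theorem KK_BB : KK T (cl (zl (S : Subgroup G) P) Y) ≤ BB (S : Subgroup G) P := sSup_le fun _ x => ex_le_BB h neg x

theorem KK_norm : Y ≤ normalizer (KK T (cl (zl (S : Subgroup G) P) Y) : Set G) := by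
  intro y hy
  refine mem_normalizer_of_cj_le (cj_le_iff.2 (sSup_le fun A x => ?_))
  have h1 := cj_mono y⁻¹ (le_KK (ex_cj h neg x hy))
  rwa [cj_inv_cj] at h1

/-- `Z_J ≤ C_L(K^)` -/
theorem ZZ_le_R : ZZ (S : Subgroup G) P ≤ zl (S : Subgroup G) P ⊓
    centralizer (KK T (cl (zl (S : Subgroup G) P) Y) : Set G) :=
  le_inf (ZZ_le _ _) (le_centralizer_iff.1 ((KK_BB h neg).trans inf_le_right))

/-- **(6)** -/
theorem Fam.false {𝓦 : Set (Subgroup G)} (f : Fam S P T (cl (zl (S : Subgroup G) P) Y) 𝓦)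
    (hYZ : ¬ oddGen Y ≤ centralizer (ZZ (S : Subgroup G) P : Set G))
    (act : ∃ A ∈ 𝓦, A ≤ (S : Subgroup G) ∧ ¬ A ≤ QQ (S : Subgroup G) P) : False := by
  have hSP : (S : Subgroup G) ≤ P := h.SP
  set L : Subgroup G := zl (S : Subgroup G) P with hL
  set U : Subgroup G := cl L Y with hU
  set K : Subgroup G := KK T U with hK
  set R : Subgroup G := L ⊓ centralizer (K : Set G) with hR
  set U₁ : Subgroup G := cl R Y with hU₁
  set V : Subgroup G := zl (S : Subgroup G) (GR (S : Subgroup G) P Y) with hVd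
  have hV : Md S P Y V := h.md_zl
  have hLV : L ≤ V := h.L_le_V hV
  have hUV : U ≤ V := U_le_zl h
  have hQL : QQ (S : Subgroup G) P ≤ centralizer (L : Set G) := QQ_cent _ _
  have hPL : P ≤ normalizer (L : Set G) := ZN.le_normalizer_zl _ _
  have hKY : Y ≤ normalizer (K : Set G) := KK_norm h neg
  have hU₁U : U₁ ≤ U := cl_le fun y hy => (cj_mono y inf_le_left).trans (cj_le_cl hy)
  have hU₁K : U₁ ≤ centralizer (K : Set G) := cl_le fun y hy => by
    have h1 := cj_mono y (inf_le_right : R ≤ centralizer (K : Set G))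
    rwa [cj_centralizer, cj_eq_of_mem_normalizer (hKY hy)] at h1
  -- `U₁ > R`
  have hne : ¬ U₁ ≤ R := by
    intro h1
    have h2 : U₁ = R := le_antisymm h1 (le_cl _ _)
    have h3 : Y ≤ normalizer (R : Set G) := by
      rw [← h2]; exact le_normalizer_cl _ _
    have hYY : Y ≤ normalizer ((Y ⊓ centralizer (R : Set G) : Subgroup G) : Set G) :=
      NO3b.EZero.le_normalizer_inf_cent h3
    rcases NO3b.K0.min_or h.syl h.min (K := Y ⊓ centralizer (R : Set G)) inf_le_left hYY with h4 | h4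
    · exact hYZ ((h4.trans inf_le_right).trans (centralizer_le (ZZ_le_R h neg)))
    · exact h.nQ ((le_inf h.QT (le_inf (h.QT.trans h.T_Y) (hQL.trans (centralizer_le inf_le_left)))).trans h4)
  -- `u`
  have hUT : U₁ ≤ T := (hU₁U.trans hUV).trans ((hV.le.trans h.V_le_D).trans h.DR_T)
  obtain ⟨u, huU, huR, hu⟩ := NO3S.OneLine.exists_fixed h.T2 hUT
    (h.T_Y.trans (le_normalizer_cl R Y)) hne
  have huV : u ∈ V := hUV (hU₁U huU)
  have hLc : ∀ a ∈ L, ∀ b ∈ L, a * b = b * a := fun a ha b hb =>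
    (mem_centralizer_iff.1 ((h.Vc hV) (hLV ha)) b (hLV hb)).symm
  have hQc : ∀ q ∈ QQ (S : Subgroup G) P, ∀ l ∈ L, q * l = l * q := fun q hq l hl =>
    (mem_centralizer_iff.1 (hQL hq) l hl).symm
  set X : Subgroup G := closure {x | ∃ q ∈ QQ (S : Subgroup G) P, x = q * u * q⁻¹ * u⁻¹} with hX
  have hXR : X ≤ R := by
    rw [hX, closure_le]
    rintro _ ⟨q, hq, rfl⟩
    exact hu q (h.QT hq)
  have hXL : X ≤ L := hXR.trans inf_le_left
  -- invariance
  have hinv : ∀ A ∈ 𝓦, A ≤ (S : Subgroup G) → ∀ p ∈ P, cj p A ≤ normalizer (X : Set G) := by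
    intro A hA hAS p hp x hx
    have hc : u ∈ centralizer (cj p (A ⊓ centralizer (L : Set G)) : Set G) :=
      centralizer_le (le_KK (f.cut A hA hAS p hp)) (hU₁K huU)
    have h1 := f.comm A hA hAS p hp u (hU₁U huU) hc x hx
    have hxP : x ∈ P := by
      have h2 := cj_mono p (hAS.trans hSP) hx
      rwa [cj_eq_of_mem_normalizer (le_normalizer hp)] at h2
    refine mem_normalizer_of_cj_le (cj_le_iff.2 ?_)
    rw [hX, closure_le]
    rintro _ ⟨q, hq, rfl⟩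
    change _ ∈ cj x⁻¹ X
    rw [mem_cj, inv_inv]
    set l : G := x * u * x⁻¹ * u⁻¹ with hl
    have hq' : x * q * x⁻¹ ∈ QQ (S : Subgroup G) P := (mem_normalizer_iff.1 (h.rq.PQ hxP) q).1 hq
    set q' : G := x * q * x⁻¹ with hq'd
    have h3 : q' * u * q'⁻¹ * u⁻¹ ∈ X := subset_closure ⟨q', hq', rfl⟩
    have e1 : q' * l = l * q' := hQc q' hq' l h1
    have e2 : l * (q' * u * q'⁻¹ * u⁻¹) = q' * u * q'⁻¹ * u⁻¹ * l := hLc _ h1 _ (hXL h3)
    have e : x * (q * u * q⁻¹ * u⁻¹) * x⁻¹ = q' * u * q'⁻¹ * u⁻¹ := by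
      have e3 : x * u * x⁻¹ = l * u := by rw [hl]; group
      calc x * (q * u * q⁻¹ * u⁻¹) * x⁻¹ = q' * (x * u * x⁻¹) * q'⁻¹ * (x * u * x⁻¹)⁻¹ := by
            rw [hq'd]; group
        _ = q' * (l * u) * q'⁻¹ * (l * u)⁻¹ := by rw [e3]
        _ = (q' * l) * u * q'⁻¹ * u⁻¹ * l⁻¹ := by group
        _ = l * (q' * u * q'⁻¹ * u⁻¹) * l⁻¹ := by rw [e1]; group
        _ = _ := by rw [e2, mul_inv_cancel_right]
    rw [e]
    exact h3
  -- all conjugates centralise `X`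
  set Γ : Subgroup G := sSup {D | ∃ A ∈ 𝓦, A ≤ (S : Subgroup G) ∧ ∃ p ∈ P, D = cj p A} with hΓ
  have hΓX : Γ ≤ normalizer (X : Set G) := sSup_le fun D hD => by
    obtain ⟨A, hA, hAS, p, hp, rfl⟩ := hD
    exact hinv A hA hAS p hp
  have hΓP : Γ ≤ P := sSup_le fun D hD => by
    obtain ⟨A, hA, hAS, p, hp, rfl⟩ := hD
    have h2 := cj_mono p (hAS.trans hSP)
    rwa [cj_eq_of_mem_normalizer (le_normalizer hp)] at h2
  have hPΓ : P ≤ normalizer (Γ : Set G) := by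
    intro g hg
    refine mem_normalizer_of_cj_le (cj_le_iff.2 (sSup_le fun D hD => ?_))
    obtain ⟨A, hA, hAS, p, hp, rfl⟩ := hD
    refine cj_le_iff.1 (le_sSup ⟨A, hA, hAS, g * p, mul_mem hg hp, ?_⟩)
    rw [cj_cj]
  have hcent : Γ ≤ centralizer (X : Set G) := sSup_le fun D hD => by
    obtain ⟨A, hA, hAS, p, hp, rfl⟩ := hD
    have hDΓ : cj p A ≤ Γ := le_sSup ⟨A, hA, hAS, p, hp, rfl⟩
    have hD2 : IsPGroup 2 ↥(cj p A) := isPGroup_cj p (S.isPGroup'.to_le hAS)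
    have hSΓ : (S : Subgroup G) ≤ normalizer (Γ : Set G) := hSP.trans hPΓ
    obtain ⟨n, hn, hnS⟩ := FFThm.exists_conj_le S (N := (S : Subgroup G) ⊔ Γ) le_sup_left hD2 (hDΓ.trans le_sup_right)
    have h1 : n ∈ (((S : Subgroup G) ⊔ Γ : Subgroup G) : Set G) := hn
    rw [coe_mul_of_left_le_normalizer_right _ _ hSΓ] at h1
    obtain ⟨s, hs, γ, hγ, e⟩ := h1
    have h2 : cj γ (cj p A) ≤ (S : Subgroup G) := by
      have e' : s * γ = n := e
      have h3 := cj_mono s⁻¹ hnS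
      rw [← e', ← cj_cj, cj_inv_cj] at h3
      rwa [cj_eq_of_mem_normalizer (le_normalizer (inv_mem hs))] at h3
    have h4 : cj γ (cj p A) ∈ 𝓦 := f.inv _ (f.inv A hA p hp) γ (hΓP hγ)
    have h5 : cj γ (cj p A) ≤ centralizer (X : Set G) :=
      (le_KK (f.ex _ h4 h2)).trans (le_centralizer_iff.1 (hXR.trans inf_le_right))
    have h6 := cj_mono γ⁻¹ h5
    rwa [cj_inv_cj, cj_centralizer, cj_eq_of_mem_normalizer (inv_mem (hΓX hγ))] at h6
  have hX1 : X = ⊥ := by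
    by_contra hXne
    obtain ⟨A, hA, hAS, hAQ⟩ := act
    have hAΓ : A ≤ Γ := le_sSup ⟨A, hA, hAS, 1, one_mem _, (cj_one A).symm⟩
    have hW1 : X ≤ L ⊓ centralizer (Γ : Set G) := le_inf hXL (le_centralizer_iff.1 hcent)
    have hPW : P ≤ normalizer ((L ⊓ centralizer (Γ : Set G) : Subgroup G) : Set G) := by
      intro p hp
      refine mem_normalizer_of_cj_le ?_
      rw [cj_inf, cj_centralizer, cj_eq_of_mem_normalizer (hPL hp), cj_eq_of_mem_normalizer (hPΓ hp)]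
    have h1 : L ≤ L ⊓ centralizer (Γ : Set G) := h.rq.irr _ inf_le_left hPW fun h2 => hXne (by
      rw [h2] at hW1
      exact le_bot_iff.1 hW1)
    exact hAQ (le_inf hAS (hAΓ.trans (le_centralizer_iff.1 (h1.trans inf_le_right))))
  -- `u ∈ C_V(Q) ≤ L`
  have huQ : u ∈ centralizer (QQ (S : Subgroup G) P : Set G) := by
    rw [mem_centralizer_iff]
    intro q hq
    have h1 : q * u * q⁻¹ * u⁻¹ ∈ X := subset_closure ⟨q, hq, rfl⟩
    rw [hX1, mem_bot] at h1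
    have h2 : q * u * q⁻¹ = u := by
      have := mul_eq_one_iff_eq_inv.1 h1
      rwa [inv_inv] at this
    calc q * u = (q * u * q⁻¹) * q := by group
      _ = u * q := by rw [h2]
  have huL : u ∈ L := h.cvQ ⟨hV.le huV, huQ⟩
  exact huR ⟨huL, hU₁K huU⟩

end

/-! ### the two families -/

section fam

variable {S : Sylow 2 G} {P T Y : Subgroup G} (h : WR S P T Y) (BT : BB (S : Subgroup G) P ≤ T)
include h

theorem hex_of {V A : Subgroup G} (hV : Md S P Y V) (hA : ElemM V A) (hAS : A ≤ (S : Subgroup G)) :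
    (centralizer (zl (S : Subgroup G) P : Set G)).relIndex A ≤
      (centralizer (A : Set G)).relIndex (zl (S : Subgroup G) P) := by
  by_cases hc : A ≤ centralizer (zl (S : Subgroup G) P : Set G)
  · rw [relIndex_eq_one.2 hc]
    exact Nat.one_le_iff_ne_zero.2 index_ne_zero_of_finite
  · exact FFThm.relIndex_le_iff.1 (h.rq.no _ hAS (elem_le hA (h.L_le_V hV)) hc)

include BT in
/-- the best offenders on `V` -/
theorem fam_best {V : Subgroup G} (hV : Md S P Y V) :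
    Fam S P T (cl (zl (S : Subgroup G) P) Y) {A | Best V A} where
  inv := fun A hA p hp => best_cjV h hV (PV h hV hp) hA
  ex := fun A hA hAS => Ex.of_best
    ((le_JJ hAS (best_mono hA (h.L_le_V hV) (h.Vc hV))).trans ((JJ_le_BB _ _).trans BT))
    (best_mono hA (U_le h hV) (h.Vc hV))
  cut := fun A hA hAS p hp => Ex.of_best (cj_cut_le h hV hAS hp)
    (best_mono (best_cjV h hV (PV h hV hp)
      (best_cut hA (h.L_le_V hV) (h.Vc hV) (hex_of h hV hA.toElemM hAS))) (U_le h hV) (h.Vc hV))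
  comm := fun A hA hAS p hp v hv hc x hx => by
    have hLV := h.L_le_V hV
    have hB : Best V (cj p A) := best_cjV h hV (PV h hV hp) hA
    have hex := hex_cj h hV (hex_of h hV hA.toElemM hAS) hp
    rw [cj_cut h hV hp] at hc
    have h1 : v ∈ zl (S : Subgroup G) P ⊔ V ⊓ centralizer (cj p A : Set G) := by
      rw [← cent_cut hB hLV (h.Vc hV) hex]
      exact ⟨U_le h hV hv, hc⟩
    have hxP : x ∈ P := by
      have h2 := cj_mono p (hAS.trans h.SP) hx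
      rwa [cj_eq_of_mem_normalizer (le_normalizer hp)] at h2
    exact comm_mem_of (K := V ⊓ centralizer (cj p A : Set G))
      (fun l hl k hk => mem_centralizer_iff.1 ((h.Vc hV) hk.1) l (hLV hl)) h1
      (ZN.le_normalizer_zl _ _ hxP) fun k hk => mem_centralizer_iff.1 hk.2 x hx

include BT in
/-- the groups `W_F` -/
theorem fam_W {V : Subgroup G} (hV : Md S P Y V) {M : Subgroup G}
    (hM : centralizer (ZZ (S : Subgroup G) P : Set G) ≤ M) (hP : P ≤ M) (hUM : cl (zl (S : Subgroup G) P) Y ≤ o2 M) :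
    Fam S P T (cl (zl (S : Subgroup G) P) Y) {A | ∃ F, NOne.Flat.Hyp V F ∧ NOne.Flat.WW V F = A} := by
  have hLV := h.L_le_V hV
  have hZV : V ≤ centralizer (ZZ (S : Subgroup G) P : Set G) :=
    (h.Vc hV).trans (centralizer_le ((ZZ_le _ _).trans hLV))
  have hV₀ : V ⊓ o2 M ≤ o2 (centralizer (ZZ (S : Subgroup G) P : Set G)) := fun v hv =>
    NOne.Flat.o2_inf_le_o2 hM ⟨hv.2, hZV hv.1⟩
  have hn : ∀ p ∈ P, cj p (V ⊓ o2 M) = V ⊓ o2 M := fun p hp => by
    rw [cj_inf, cj_eq_of_mem_normalizer (PV h hV hp), cj_eq_of_mem_normalizer (ZN.le_normalizer_o2 _ (hP hp))]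
  have hUV₀ : cl (zl (S : Subgroup G) P) Y ≤ V ⊓ o2 M := le_inf (U_le h hV) hUM
  have hE : ∀ F, NOne.Flat.Hyp V F → NOne.Flat.WW V F ≤ (S : Subgroup G) → ∀ p ∈ P,
      V ⊓ o2 M ≤ NOne.Flat.EE V (MulAut.conj p • F) := fun F hF hW p hp => by
    have h1 := cj_mono p (le_E h hV hF hW inf_le_left hV₀)
    rw [hn p hp] at h1
    refine h1.trans ?_
    rw [← NOne.Flat.EE_conj (PV h hV hp)]
    rfl
  have hLE : ∀ F, NOne.Flat.Hyp V F → NOne.Flat.WW V F ≤ (S : Subgroup G) → ∀ p ∈ P,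
      zl (S : Subgroup G) P ≤ NOne.Flat.EE V (MulAut.conj p • F) := fun F hF hW p hp =>
    ((le_cl _ _).trans hUV₀).trans (hE F hF hW p hp)
  have hcut : ∀ F, ∀ p ∈ P, cj p (NOne.Flat.WW V F ⊓ centralizer (zl (S : Subgroup G) P : Set G)) =
      NOne.Flat.WW V (MulAut.conj p • F) ⊓ centralizer (zl (S : Subgroup G) P : Set G) := fun F p hp => by
    rw [cj_cut h hV hp, WW_cj (PV h hV hp)]
  have hex : ∀ F, NOne.Flat.Hyp V F → NOne.Flat.WW V F ≤ (S : Subgroup G) → ∀ p ∈ P,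
      (centralizer (zl (S : Subgroup G) P : Set G)).relIndex (NOne.Flat.WW V (MulAut.conj p • F)) ≤
      (centralizer (NOne.Flat.WW V (MulAut.conj p • F) : Set G)).relIndex (zl (S : Subgroup G) P) :=
    fun F hF hW p hp => by
      rw [WW_cj (PV h hV hp)]
      exact hex_cj h hV (hexW h hV hF hW) hp
  refine ⟨?_, ?_, ?_, ?_⟩
  · rintro _ ⟨F, hF, rfl⟩ p hp
    exact ⟨MulAut.conj p • F, hyp_cj hF (PV h hV hp), WW_cj (PV h hV hp)⟩
  · rintro _ ⟨F, hF, rfl⟩ hW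
    have h1 := hE F hF hW 1 (one_mem _)
    rw [map_one, one_smul] at h1
    exact Ex.of_best ((W_le_BB h hV hF hW).trans BT) (bestW hF (hUV₀.trans h1))
  · rintro _ ⟨F, hF, rfl⟩ hW p hp
    refine ⟨cj_cut_le h hV hW hp, ?_, ?_⟩
    · rw [hcut F p hp]
      exact elemM_mono (elemW (hyp_cj hF (PV h hV hp)) (U_le h hV)) inf_le_left
    · rw [hcut F p hp, le_fM_iff]
      exact best_AF (hyp_cj hF (PV h hV hp)) (le_cl _ _) (hUV₀.trans (hE F hF hW p hp)) (hex F hF hW p hp)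
  · rintro _ ⟨F, hF, rfl⟩ hW p hp v hv hc x hx
    have hFp := hyp_cj hF (PV h hV hp)
    rw [hcut F p hp] at hc
    have h1 : v ∈ zl (S : Subgroup G) P ⊔ MulAut.conj p • F := by
      rw [← cent_AF hFp (hLE F hF hW p hp) (hex F hF hW p hp)]
      exact ⟨hE F hF hW p hp (hUV₀ hv), hc⟩
    have hxP : x ∈ P := by
      have h2 := cj_mono p (hW.trans h.SP) hx
      rwa [cj_eq_of_mem_normalizer (le_normalizer hp)] at h2
    have hxW : x ∈ NOne.Flat.WW V (MulAut.conj p • F) := by rwa [WW_cj (PV h hV hp)]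
    exact comm_mem_of (fun l hl f hf => mem_centralizer_iff.1 ((h.Vc hV) (hFp.F_le_V hf)) l (hLV hl)) h1
      (ZN.le_normalizer_zl _ _ hxP) fun k hk => (mem_centralizer_iff.1 (NOne.Flat.Hyp.W_le_X hxW) k hk).symm

include BT

/-- **THEOREM QW, the end** (`O²(Y)` moves `Z_J`). -/
theorem not_neg {M : Subgroup G} (hM : centralizer (ZZ (S : Subgroup G) P : Set G) ≤ M) (hP : P ≤ M)
    (hYZ : ¬ oddGen Y ≤ centralizer (ZZ (S : Subgroup G) P : Set G))
    (hUM : cl (zl (S : Subgroup G) P) Y ≤ o2 M) : ¬ Neg T Y (cl (zl (S : Subgroup G) P) Y) := by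
  intro neg
  have hV : Md S P Y (zl (S : Subgroup G) (GR (S : Subgroup G) P Y)) := h.md_zl
  by_cases hoff : ∃ A ≤ GR (S : Subgroup G) P Y, OffM (zl (S : Subgroup G) (GR (S : Subgroup G) P Y)) A
  · obtain ⟨B, m⟩ := exists_maxMin hV.norm hoff
    rcases h.prin hV.le m.le m.pg m.ne (𝓕 := {A | Best (zl (S : Subgroup G) (GR (S : Subgroup G) P Y)) A})
        (fun A hA n hn => best_cjV h hV (hV.norm hn) hA) m.best with hact | ⟨-, A, hA, hAQ, hAY⟩
    · exact Fam.false h neg (fam_best h BT hV) hYZ hact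
    · exact hAY (ex_le_o2 h neg ((fam_best h BT hV).ex A hA (hAQ.trans (QQ_le _ _))))
  · push Not at hoff
    have hn : NO3b.EZero.NotFF (zl (S : Subgroup G) (GR (S : Subgroup G) P Y)) :=
      nff_of_noOff h.S_le hV.norm hoff
    obtain ⟨F₁, -, hF⟩ := h.exists_hyp hV hn (h.bad_Z hV hn)
    have hW2 : IsPGroup 2 (NOne.Flat.WW (zl (S : Subgroup G) (GR (S : Subgroup G) P Y)) F₁) :=
      (isPGroup_o2 _).to_le NOne.Flat.Hyp.W_le_R
    rcases h.prin hV.le (h.W_le_GR hV hF) hW2 hF.W_move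
      (𝓕 := {A | ∃ F, NOne.Flat.Hyp (zl (S : Subgroup G) (GR (S : Subgroup G) P Y)) F ∧
        NOne.Flat.WW (zl (S : Subgroup G) (GR (S : Subgroup G) P Y)) F = A})
      (fun A hA n hn => by
        obtain ⟨F, hF, rfl⟩ := hA
        have hnV := hV.norm hn
        exact ⟨MulAut.conj n • F, hF.conj hnV, (NOne.Flat.WW_conj hnV).symm⟩)
      ⟨F₁, hF, rfl⟩ with hact | ⟨-, A, hA, hAQ, hAY⟩
    · exact Fam.false h neg (fam_W h BT hV hM hP hUM) hYZ hact
    · exact hAY (ex_le_o2 h neg ((fam_W h BT hV hM hP hUM).ex A hA (hAQ.trans (QQ_le _ _))))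

/-- **THEOREM QW, the end**: some best offender `A ≤ T` on `U` moves `U` and does not lie in `O₂(Y)`; `U ≤ O₂(M)` may be
proved under **(neg)**. -/
theorem exists_best_odd {M : Subgroup G} (hM : centralizer (ZZ (S : Subgroup G) P : Set G) ≤ M) (hP : P ≤ M)
    (hYZ : ¬ oddGen Y ≤ centralizer (ZZ (S : Subgroup G) P : Set G))
    (hUM : Neg T Y (cl (zl (S : Subgroup G) P) Y) → cl (zl (S : Subgroup G) P) Y ≤ o2 M) :
    ∃ A ≤ T, Best (cl (zl (S : Subgroup G) P) Y) A ∧ ¬ A ≤ centralizer (cl (zl (S : Subgroup G) P) Y : Set G) ∧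
      ¬ A ≤ o2 Y := by
  by_contra hcon
  have neg : Neg T Y (cl (zl (S : Subgroup G) P) Y) := Neg.of_best fun A hA hb hne => by
    by_contra hY'
    exact hcon ⟨A, hA, hb, hne, hY'⟩
  exact not_neg h BT hM hP hYZ (hUM neg) neg

omit BT in
/-- `Y ≰ M` ⟹ `O²(Y)` moves `Z_J` -/
theorem not_odd {M : Subgroup G} (hM : centralizer (ZZ (S : Subgroup G) P : Set G) ≤ M) (hP : P ≤ M)
    (hYM : ¬ Y ≤ M) : ¬ oddGen Y ≤ centralizer (ZZ (S : Subgroup G) P : Set G) := fun h1 => hYM (by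
  rw [← oddGen_sup_syl h.syl]
  exact sup_le (h1.trans hM) (h.TS.trans (h.SP.trans hP)))

/-- **THEOREM QW, the end**, `Y ≰ M`. -/
theorem exists_best_of {M : Subgroup G} (hM : centralizer (ZZ (S : Subgroup G) P : Set G) ≤ M) (hP : P ≤ M)
    (hYM : ¬ Y ≤ M) (hUM : Neg T Y (cl (zl (S : Subgroup G) P) Y) → cl (zl (S : Subgroup G) P) Y ≤ o2 M) :
    ∃ A ≤ T, Best (cl (zl (S : Subgroup G) P) Y) A ∧ ¬ A ≤ centralizer (cl (zl (S : Subgroup G) P) Y : Set G) ∧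
      ¬ A ≤ o2 Y := exists_best_odd h BT hM hP (not_odd h hM hP hYM) hUM

end fam

end Cfsg.Agent.Omega.NOThreeL.QWR

end

end
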