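import Cfsg.Agent.Mrg.Omega.NO3S.CaseLW.QWex
import Cfsg.Agent.Mrg.Omega.NO3S.CaseLW.QWa
import Cfsg.Agent.Mrg.Omega.NOThreeL.RRed.BFr.Top
import Cfsg.Agent.Mrg.Omega.NOThreeL.QWR.Sw.Base
import Cfsg.Agent.Mrg.Omega.NOThreeL.QWR.LowM
import Cfsg.Agent.Mrg.Omega.ML.LieTwF4

-- merged: Cfsg.Agent.Mrg.Omega.NOThreeL.QWR.Alpha
section

/-!
# THEOREM QW in box R, step (α) (helper733 #27230 (s3), #27386; helper866 #24897 (2), (3)): `U = ⟨V*^F⟩ ≤ O₂(M)`, `|Z| ≥ 4`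

`M` is a 2-local over `S`, `Z_M = ⟨Z^M⟩ = zl S M`, `F ≤ C_G(Z)`, `V ≤ O₂(C_G(z))` for all `1 ≠ z ∈ Z`, `|Z| ≥ 4`, `q = 2`.

* `exists_fix` : an element which acts on the elementary abelian `Z_M` as a transvection centralises some `1 ≠ z ∈ Z`;
* `cent_zl4` : `Z_M` centralises `U ≤ O₂(C_M(Z))` ((ML), Baer-Suzuki, `exists_fix`);
* `hex4` : its hypothesis over `FrL`, from a conjugate `Z_M^(y⁻¹) ≤ B` which moves `V`;
* **`U_le_o2`** : `U ≤ O₂(M)`.
-/

set_option autoImplicit false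
set_option linter.unusedSectionVars false

namespace Cfsg.Agent.Omega.NOThreeL.QWR.Alpha

open Subgroup Cfsg Cfsg.Agent.ZN Cfsg.Agent.ZN.ChoiceBase Cfsg.Agent.Omega.MinPar
open Cfsg.Agent.MinSimple.VModule (o2_isPGroup)
open Cfsg.Agent.Omega.FrameNOFF (CZ)
open Cfsg.Agent.Omega.NO3b.EZero (cl cl_le le_cl cj_le_cl le_normalizer_cl)
open Cfsg.Agent.Omega.ML.Final (MLK)
open Cfsg.Agent.Omega.ML.GMod (ZD)
open Cfsg.Agent.Omega.OM.Lev.Uni (FrL)
open Cfsg.Agent.Omega.NO3S.CaseLW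

universe u

variable {G : Type u} [Group G] [Finite G]

/-- An element which acts on `Z` by `x ↦ x` or `x ↦ x c` centralises an element `≠ 1` of `Z`, `|Z| ≥ 4`. -/
theorem exists_fix {Z : Subgroup G} (h4 : 4 ≤ Nat.card Z) {w c : G}
    (hw : ∀ x ∈ Z, w * x * w⁻¹ = x ∨ w * x * w⁻¹ = x * c) : ∃ z ∈ Z, z ≠ 1 ∧ w * z = z * w := by
  classical
  by_contra hcon
  push Not at hcon
  have key : ∀ x ∈ Z, ∀ y ∈ Z, w * (x * y⁻¹) = x * y⁻¹ * w → x = y := fun x hx y hy h1 => by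
    by_contra hne
    exact hcon _ (mul_mem hx (inv_mem hy)) (fun e => hne (mul_inv_eq_one.1 e)) h1
  let f : Z → Bool := fun x => decide (w * (x : G) * w⁻¹ = x)
  have hf : Function.Injective f := by
    rintro ⟨x, hx⟩ ⟨y, hy⟩ e
    have e' : (w * x * w⁻¹ = x) ↔ (w * y * w⁻¹ = y) := by
      have h1 : decide (w * x * w⁻¹ = x) = decide (w * y * w⁻¹ = y) := e
      exact decide_eq_decide.1 h1
    refine Subtype.ext (key x hx y hy ?_)
    have h2 : w * (x * y⁻¹) * w⁻¹ = x * y⁻¹ := by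
      have h3 : w * (x * y⁻¹) * w⁻¹ = (w * x * w⁻¹) * (w * y * w⁻¹)⁻¹ := by group
      by_cases h4 : w * x * w⁻¹ = x
      · rw [h3, h4, e'.1 h4]
      · have h5 : ¬ w * y * w⁻¹ = y := fun h6 => h4 (e'.2 h6)
        have h6 := (hw x hx).resolve_left h4
        have h7 := (hw y hy).resolve_left h5
        rw [h3, h6, h7]
        group
    exact mul_inv_eq_iff_eq_mul.1 h2
  have h1 := Nat.card_le_card_of_injective f hf
  have h2 : Nat.card Bool = 2 := by rw [Nat.card_eq_fintype_card]; rfl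
  omega

variable (S : Sylow 2 G) {M : Subgroup G}

/-- **(2)**, `|Z| ≥ 4`, `q = 2`: `Z_M` centralises `U ≤ O₂(C_M(Z))`. -/
theorem cent_zl4 (hG : IsCharacteristicTwoType G) (ml : MLK.{u, u}) (h : IsLoc (S : Subgroup G) M) (hK : IsKGroup M)
    (h4 : 4 ≤ Nat.card (zc (S : Subgroup G))) {U : Subgroup G} (hU2 : ∀ x ∈ U, x * x = 1)
    (hUO : U ≤ o2 (M ⊓ centralizer (zc (S : Subgroup G) : Set G)))
    (hex : (centralizer (zl (S : Subgroup G) M : Set G)).relIndex U ≤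
        (centralizer (U : Set G)).relIndex (zl (S : Subgroup G) M) →
      ¬ U ≤ centralizer (zl (S : Subgroup G) M : Set G) →
        ∃ w ∈ U, ∃ c : G, w ∉ centralizer (zl (S : Subgroup G) M : Set G) ∧
          (∀ x ∈ zl (S : Subgroup G) M, w * x * w⁻¹ = x ∨ w * x * w⁻¹ = x * c) ∧
          ∀ z ∈ zc (S : Subgroup G), z ≠ 1 → w ∈ o2 (centralizer ({z} : Set G))) :
    U ≤ centralizer (zl (S : Subgroup G) M : Set G) := by
  by_contra hn
  have hsq : ∀ v ∈ zl (S : Subgroup G) M, v * v = 1 := fun v hv => by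
    have h1 := (ChoiceBase.mem_zc.1 (IsLoc.zl_le S hG h hv)).2.1
    rwa [sq] at h1
  have D : ZD M (zl (S : Subgroup G) M) (zc (S : Subgroup G)) (S : Subgroup G) U :=
    { nV := MinSimple.VModule.le_normalizer_zl _ _
      sq := hsq
      ZV := MinSimple.VModule.zc_le_zl _ _
      gen := fun X h1 h2 => MinSimple.VModule.zl_le h1 h2
      TL := h.le
      two := S.isPGroup'
      odd := MinSimple.Basic.not_dvd_relIndex S h.le
      TZ := le_centralizer_zc _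
      AO := hUO
      Asq := fun a ha => by rw [hU2 a ha]; exact one_mem _ }
  obtain ⟨w, hw, c, hwn, hT, hwo⟩ := hex (D.gml ml hK) hn
  have hwM : w ∈ M := ((hUO.trans (o2_le _)).trans inf_le_left) hw
  obtain ⟨m, hm, hodd⟩ := QW.exists_odd (H := M) (MinSimple.VModule.le_normalizer_zl (S : Subgroup G) M)
    (QW.red_zl S h.le) hwM (hU2 w hw) hwn
  have hT' : ∀ x ∈ zc (S : Subgroup G), m * w * m⁻¹ * x * (m * w * m⁻¹)⁻¹ = x ∨
      m * w * m⁻¹ * x * (m * w * m⁻¹)⁻¹ = x * (m * c * m⁻¹) := by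
    intro x hx
    have hx' : m⁻¹ * x * m ∈ zl (S : Subgroup G) M := by
      have h1 := (mem_normalizer_iff.1 (MinSimple.VModule.le_normalizer_zl (S : Subgroup G) M (inv_mem hm)) x).1
        (MinSimple.VModule.zc_le_zl _ _ hx)
      rwa [inv_inv] at h1
    have e : m * w * m⁻¹ * x * (m * w * m⁻¹)⁻¹ = m * (w * (m⁻¹ * x * m) * w⁻¹) * m⁻¹ := by group
    rcases hT _ hx' with h1 | h1
    · left
      rw [e, h1]
      group
    · right
      rw [e, h1]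
      group
  obtain ⟨z, hz, hz1, hzw⟩ := exists_fix h4 hT'
  have hww' : m * w * m⁻¹ * (m * w * m⁻¹) = 1 := by
    have e : m * w * m⁻¹ * (m * w * m⁻¹) = m * (w * w) * m⁻¹ := by group
    rw [e, hU2 w hw]
    group
  obtain ⟨k, hk⟩ := QW.common' (A := o2 (centralizer ({z} : Set G))) (o2_isPGroup _) (hwo z hz hz1) hww'
    fun a ha => QW.o2_conj_mem (mem_centralizer_singleton_iff.2 hzw) ha
  exact hodd k (by rw [hk]; exact one_mem _)

section fr

variable {ι : Type*} {B Q V X ZJ F : Subgroup G} {L W Z C A : ι → Subgroup G}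

/-- the hypothesis of `cent_zl4` -/
theorem hex4 (fr : FrL B Q V X ZJ L W Z C A 2) (hF : F ≤ CZ (S : Subgroup G))
    (lowz : ∀ z ∈ zc (S : Subgroup G), z ≠ 1 → V ≤ o2 (centralizer ({z} : Set G)))
    (hsq : ∀ x ∈ zl (S : Subgroup G) M, x * x = 1)
    {y : G} (hy : y ∈ F) (hyB : cj y⁻¹ (zl (S : Subgroup G) M) ≤ B)
    (hyV : ¬ cj y⁻¹ (zl (S : Subgroup G) M) ≤ centralizer (V : Set G)) :
    ∃ w ∈ cl V F, ∃ c : G, w ∉ centralizer (zl (S : Subgroup G) M : Set G) ∧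
      (∀ x ∈ zl (S : Subgroup G) M, w * x * w⁻¹ = x ∨ w * x * w⁻¹ = x * c) ∧
      ∀ z ∈ zc (S : Subgroup G), z ≠ 1 → w ∈ o2 (centralizer ({z} : Set G)) := by
  classical
  obtain ⟨i, hi⟩ := QWex.exists_blk fr hyB hyV
  obtain ⟨w, hw, hwn⟩ := SetLike.not_le_iff_exists.1 hi
  -- the element of order 2 of `Z i`
  have hZi : ∃ c : G, ∀ t ∈ Z i, t = 1 ∨ t = c := by
    have h2 := fr.cardZ i
    by_contra hcon
    push Not at hcon
    obtain ⟨a, ha, ha1, -⟩ := hcon 1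
    obtain ⟨b, hb, hb1, hba⟩ := hcon a
    have hfin : Finite (Z i) := Nat.finite_of_card_ne_zero (by rw [h2]; norm_num)
    have h3 : ({⟨1, one_mem _⟩, ⟨a, ha⟩, ⟨b, hb⟩} : Finset (Z i)).card = 3 := by
      rw [Finset.card_eq_three]
      exact ⟨_, _, _, fun e => ha1 (congrArg Subtype.val e).symm, fun e => hb1 (congrArg Subtype.val e).symm,
        fun e => hba (congrArg Subtype.val e).symm, rfl⟩
    have : Fintype (Z i) := Fintype.ofFinite _
    have h5 := Finset.card_le_univ ({⟨1, one_mem _⟩, ⟨a, ha⟩, ⟨b, hb⟩} : Finset (Z i))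
    rw [h3, ← Nat.card_eq_fintype_card, h2] at h5
    omega
  obtain ⟨c, hc⟩ := hZi
  refine ⟨y * w * y⁻¹, cj_le_cl hy ⟨w, fr.WV i hw, rfl⟩, y * c * y⁻¹, fun h1 => hwn ?_, ?_, ?_⟩
  · rw [← cj_centralizer, mem_cj]
    have e : y⁻¹⁻¹ * w * y⁻¹ = y * w * y⁻¹ := by group
    rwa [e]
  · intro x hx
    have hx' : y⁻¹ * x * y ∈ B := hyB (by
      rw [mem_cj]
      have e : y⁻¹⁻¹ * (y⁻¹ * x * y) * y⁻¹ = x := by group
      rwa [e])
    have hxx : (y⁻¹ * x * y)⁻¹ = y⁻¹ * x * y := by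
      have hxi : x⁻¹ = x := inv_eq_of_mul_eq_one_left (hsq x hx)
      calc (y⁻¹ * x * y)⁻¹ = y⁻¹ * x⁻¹ * y := by group
        _ = _ := by rw [hxi]
    have ht := (fr.blk i).com _ hx' w hw
    set x' := y⁻¹ * x * y with hx'd
    have ex : x = y * x' * y⁻¹ := by rw [hx'd]; group
    set t := x' * w * x'⁻¹ * w⁻¹ with htd
    -- `w x' w⁻¹ = x' t`
    have htB : x' * t = t * x' := (fr.blk i).cZ _ hx' t ht
    have hwx : w * x' * w⁻¹ = x' * t := by
      have e1 : x' * w * x' * w⁻¹ = t := by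
        rw [htd]
        conv_rhs => rw [hxx]
      calc w * x' * w⁻¹ = x'⁻¹ * (x' * w * x' * w⁻¹) := by group
        _ = x'⁻¹ * t := by rw [e1]
        _ = x' * t := by rw [hxx]
    have e2 : y * w * y⁻¹ * x * (y * w * y⁻¹)⁻¹ = y * (w * x' * w⁻¹) * y⁻¹ := by
      rw [ex]; group
    rcases hc t ht with h1 | h1
    · left
      rw [e2, hwx, h1, mul_one, ← ex]
    · right
      rw [e2, hwx, h1, ex]
      group
  · intro z hz hz1
    have h1 : y ∈ centralizer ({z} : Set G) := (centralizer_le (Set.singleton_subset_iff.2 hz) :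
      centralizer (zc (S : Subgroup G) : Set G) ≤ centralizer ({z} : Set G)) (hF hy)
    exact QW.o2_conj_mem h1 (lowz z hz hz1 (fr.WV i hw))

/-- **(α)** : `⟨V*^F⟩ ≤ O₂(M)`. -/
theorem U_le_o2 (hG : IsCharacteristicTwoType G) (ml : MLK.{u, u}) (hM : IsLoc (S : Subgroup G) M) (hK : IsKGroup M)
    (h4 : 4 ≤ Nat.card (zc (S : Subgroup G))) (fr : FrL B Q V X ZJ L W Z C A 2) (hF : F ≤ CZ (S : Subgroup G))
    (low : V ≤ o2 (CZ (S : Subgroup G)))
    (lowz : ∀ z ∈ zc (S : Subgroup G), z ≠ 1 → V ≤ o2 (centralizer ({z} : Set G)))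
    (hU2 : ∀ x ∈ cl V F, x * x = 1)
    (line : (centralizer (zl (S : Subgroup G) M : Set G)).relIndex (cl V F) ≤
        (centralizer (cl V F : Set G)).relIndex (zl (S : Subgroup G) M) →
      ¬ cl V F ≤ centralizer (zl (S : Subgroup G) M : Set G) →
        ∃ y ∈ F, cj y⁻¹ (zl (S : Subgroup G) M) ≤ B ∧
          ¬ cj y⁻¹ (zl (S : Subgroup G) M) ≤ centralizer (V : Set G)) :
    cl V F ≤ o2 M := by
  have hS : (S : Subgroup G) ≠ ⊥ := fun hb => by
    have h1 : Nat.card (zc (S : Subgroup G)) ≤ Nat.card (S : Subgroup G) :=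
      Nat.card_le_card_of_injective _ (Subgroup.inclusion_injective (ZN.zc_le _))
    rw [hb, Subgroup.card_bot] at h1
    rw [hb] at h4
    omega
  have hUZ : cl V F ≤ o2 (CZ (S : Subgroup G)) := cl_le fun y hy => by
    have h1 := cj_mono y low
    rwa [cj_eq_of_mem_normalizer (MinSimple.VModule.le_normalizer_o2 _ (hF hy))] at h1
  have hsq : ∀ v ∈ zl (S : Subgroup G) M, v * v = 1 := fun v hv => by
    have h1 := (ChoiceBase.mem_zc.1 (IsLoc.zl_le S hG hM hv)).2.1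
    rwa [sq] at h1
  refine QW.le_o2_M S hM.le hS (cent_zl4 S hG ml hM hK h4 hU2 (hUZ.trans (QW.oz_le S hM.le hS)) fun off hne => ?_) hUZ
  obtain ⟨y, hy, h1, h2⟩ := line off hne
  exact hex4 S fr hF lowz hsq hy h1 h2

end fr

end Cfsg.Agent.Omega.NOThreeL.QWR.Alpha

end

-- merged: Cfsg.Agent.Mrg.Omega.NOThreeL.QWR.LtVOf
section

/-!
# NO-3L, box R, one class, top level `(Q, V*)`: the ground frame `LtV`

* **`ltV_of`** : `LtV S V* Q` from the frame over `B`;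
* **`exists_top`** : frame, `LtV` and `hM` at once from the blocks; `exists_crA` : with `OffR` also helper587's `CrA`;
* `zv_eq`, `bv_eq` : `ZK`, `BK` and `TopM`'s `ZV`, `BV`.
-/

set_option autoImplicit false
set_option linter.unusedSectionVars false

namespace Cfsg.Agent.Omega.NOThreeL.QWR.FrTop

open Subgroup Cfsg Cfsg.Agent.Omega.MinPar Cfsg.Agent.Omega.Frame Cfsg.Agent.Omega.FrameNOFF
open Cfsg.Agent.ZN.ChoiceBase Cfsg.Agent.ZN.ChoiceSit
open Cfsg.Agent.ZN (zc zl o2 zj bau jj)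
open Cfsg.Agent.Omega.NO3S.Level (lev Lev nxt)
open Cfsg.Agent.Omega.OM.SwapK (ZK BK WL)
open Cfsg.Agent.Omega.OM.Lev.Uni (FrL)
open Cfsg.Agent.Omega.OM.SwapV (CrA)
open Cfsg.Agent.Omega.NOThreeL.RZ (RR)
open Cfsg.Agent.Omega.NOThreeL.RTree (RB)
open Cfsg.Agent.Omega.NOThreeL.Merge (MZ)
open Cfsg.Agent.Omega.NOThreeL.RRed (Wd)
open Cfsg.Agent.Omega.NOThreeL.RRed.FourTree (Bks nxtX)
open Cfsg.Agent.Omega.NOThreeL.QWR.Sw (LtV OffR)

universe u

variable {G : Type u} [Group G] [Finite G] {S : Sylow 2 G}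

/-- `ZK S Q` is `TopM`'s `ZV S` -/
theorem zv_eq (hl : Lev (S : Subgroup G) (QT (S : Subgroup G))) (hz : zc (QT (S : Subgroup G)) = Wd (S : Subgroup G)) :
    ZK (S : Subgroup G) (QT (S : Subgroup G)) = ZV (S : Subgroup G) := by
  have h7 : nxtX (S : Subgroup G) (Wd (S : Subgroup G)) = nxt (S : Subgroup G) (QT (S : Subgroup G)) := by
    rw [← nxtX_zc, hz]
  rw [zk_eq hl hz, ZV, h7]

/-- `BK S Q` is `TopM`'s `BV S` -/
theorem bv_eq (hl : Lev (S : Subgroup G) (QT (S : Subgroup G))) (hz : zc (QT (S : Subgroup G)) = Wd (S : Subgroup G)) :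
    BK (S : Subgroup G) (QT (S : Subgroup G)) = BV (S : Subgroup G) := by
  have h7 : nxtX (S : Subgroup G) (Wd (S : Subgroup G)) = nxt (S : Subgroup G) (QT (S : Subgroup G)) := by
    rw [← nxtX_zc, hz]
  rw [bk_eq hl hz, BV, h7]

/-- **`LtV S V* Q`.** -/
theorem ltV_of {ι : Type} [Finite ι] {Q X : Subgroup G} {L W Z C A : ι → Subgroup G} (R : RB S) (wl : WL S Q)
    (hX : zc Q = Wd (S : Subgroup G))
    (fr : FrL (BK (S : Subgroup G) Q) Q (Wd (S : Subgroup G)) X (ZK (S : Subgroup G) Q) L W Z C A 2)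
    (hL : ∀ i, L i ≤ MZ (S : Subgroup G)) : LtV S (Wd (S : Subgroup G)) Q where
  wl := wl
  zcQ := hX
  char2 := R.ctx.char2
  low := low R wl hX.ge fr hL
  noff := noff R wl hX fr hL

section blocks

variable {I : Type u} [Fintype I] [DecidableEq I] {N E : I → Subgroup G} {Om : I → Type u}
  [∀ i, Fintype (Om i)] [∀ i, DecidableEq (Om i)] {phi : ∀ i, Finset (Om i) → G}

/-- **The frame at `(Q, V*)`, with `LtV` and `hM`.** -/
theorem exists_top (B : RB S) (hr : RR (S : Subgroup G) = ⊥) (hB : Bks S N E ⊥ Om phi)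
    (irr : ∀ U : Subgroup G, U ≤ Wd (S : Subgroup G) → MZ (S : Subgroup G) ≤ normalizer (U : Set G) → U ≠ ⊥ →
      Wd (S : Subgroup G) ≤ U) (wl : WL S (QT (S : Subgroup G)))
    (hz : zc (QT (S : Subgroup G)) = Wd (S : Subgroup G)) :
    LtV S (Wd (S : Subgroup G)) (QT (S : Subgroup G)) ∧
    ∃ (ι : Type) (_ : Finite ι) (L W Z C A : ι → Subgroup G), Nonempty ι ∧
      (∑ i, Fintype.card (Om i)) ≤ 2 * Nat.card ι + Fintype.card I ∧ (∀ i, L i ≤ MZ (S : Subgroup G)) ∧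
      FrL (BK (S : Subgroup G) (QT (S : Subgroup G))) (QT (S : Subgroup G)) (Wd (S : Subgroup G)) (Wd (S : Subgroup G))
        (ZK (S : Subgroup G) (QT (S : Subgroup G))) L W Z C A 2 ∧
      ∀ i j, ∃ g ∈ MZ (S : Subgroup G), g ∈ normalizer (BK (S : Subgroup G) (QT (S : Subgroup G)) : Set G) ∧
        cj g (W i) = W j := by
  obtain ⟨ι, i1, L, W, Z, C, A, h1, h2, h3, h4, h5⟩ := frLM_top B hr hB irr wl.lev hz
  exact ⟨ltV_of B wl hz h4 h3, ι, i1, L, W, Z, C, A, h1, h2, h3, h4, h5⟩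

/-- The same with `CrA`. -/
theorem exists_crA (B : RB S) (hr : RR (S : Subgroup G) = ⊥) (hB : Bks S N E ⊥ Om phi)
    (irr : ∀ U : Subgroup G, U ≤ Wd (S : Subgroup G) → MZ (S : Subgroup G) ≤ normalizer (U : Set G) → U ≠ ⊥ →
      Wd (S : Subgroup G) ≤ U) (wl : WL S (QT (S : Subgroup G)))
    (hz : zc (QT (S : Subgroup G)) = Wd (S : Subgroup G))
    (ho : OffR S (Wd (S : Subgroup G)) (QT (S : Subgroup G))) :
    LtV S (Wd (S : Subgroup G)) (QT (S : Subgroup G)) ∧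
    ∃ (ι : Type) (_ : Finite ι) (L W Z C A : ι → Subgroup G), Nonempty ι ∧
      (∑ i, Fintype.card (Om i)) ≤ 2 * Nat.card ι + Fintype.card I ∧ (∀ i, L i ≤ MZ (S : Subgroup G)) ∧
      FrL (BK (S : Subgroup G) (QT (S : Subgroup G))) (QT (S : Subgroup G)) (Wd (S : Subgroup G)) (Wd (S : Subgroup G))
        (ZK (S : Subgroup G) (QT (S : Subgroup G))) L W Z C A 2 ∧
      CrA S (nxt (S : Subgroup G) (QT (S : Subgroup G))) (BK (S : Subgroup G) (QT (S : Subgroup G)))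
        (Wd (S : Subgroup G)) (ZK (S : Subgroup G) (QT (S : Subgroup G))) L W Z C A ∧
      ∀ i j, ∃ g ∈ MZ (S : Subgroup G), g ∈ normalizer (BK (S : Subgroup G) (QT (S : Subgroup G)) : Set G) ∧
        cj g (W i) = W j := by
  obtain ⟨hlt, ι, i1, L, W, Z, C, A, h1, h2, h3, h4, h5⟩ := exists_top B hr hB irr wl hz
  exact ⟨hlt, ι, i1, L, W, Z, C, A, h1, h2, h3, h4, hlt.crA h4 ho, h5⟩

end blocks

end Cfsg.Agent.Omega.NOThreeL.QWR.FrTop

end

-- merged: Cfsg.Agent.Mrg.Omega.NOThreeL.QWR.AlphaOf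
section

section


/-!
# THEOREM QW in box R, step (α) over the frame at `(Q, V*)`: `U = ⟨V*^F⟩ ≤ O₂(M)`, `|Z| ≥ 4`, `q = 2`

`RB S`, `M ≥ MZ S` local, `Q = C_S(V*) ≤ T ≤ S`, `F ≤ C_G(Z)`.

* `zl_le_Q` : `Z_M ≤ Q`; `zl_ex` : `Z_M` is `Ex` as soon as it offends on `U`; `line` : some `Z_M^(y⁻¹) ≤ B` moves `V*`;
* **`hUM`** : `U ≤ O₂(M)` from the two corollaries `exCj`, `exB` of QW (1);
* **`hUM_of`** : the hypothesis `hUM` of `QWR.exists_best_odd` over `WR S (MZ S) T Y`, `Y ≤ C_G(Z)`, `|Z| ≥ 4`, `q = 2`;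
* **`exists_best`** : THEOREM QW over `WR S (MZ S) T Y`, `Y ≤ C_G(Z)`, `|Z| ≥ 4`, `q = 2`.
-/

set_option autoImplicit false
set_option linter.unusedSectionVars false

namespace Cfsg.Agent.Omega.NOThreeL.QWR.AlphaOf

open Subgroup Cfsg Cfsg.Agent.ZN Cfsg.Agent.ZN.ChoiceBase Cfsg.Agent.Omega.MinPar
open Cfsg.Agent.Omega.FrameNOFF (CZ)
open Cfsg.Agent.Omega.NO3b.EZero (cl cl_le le_cl cj_le_cl le_normalizer_cl)
open Cfsg.Agent.Omega.NO3S.CaseLW.QWc
open Cfsg.Agent.Omega.ML.Final (MLK)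
open Cfsg.Agent.Omega.OM.Lev.Uni (FrL)
open Cfsg.Agent.Omega.NOThreeL.RTree (RB)
open Cfsg.Agent.Omega.NOThreeL.Merge (MZ)
open Cfsg.Agent.Omega.NOThreeL.RRed (Wd)

universe u

variable {G : Type u} [Group G] [Finite G] {S : Sylow 2 G} {M T F : Subgroup G}

section zm

variable (R : RB S) (hM : IsLoc (S : Subgroup G) M)
include R hM

theorem zl_sq {v : G} (hv : v ∈ zl (S : Subgroup G) M) : v ^ 2 = 1 :=
  (ChoiceBase.mem_zc.1 (hM.zl_le S R.ctx.char2 hv)).2.1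

theorem zl_comm {v w : G} (hv : v ∈ zl (S : Subgroup G) M) (hw : w ∈ zl (S : Subgroup G) M) : v * w = w * v := by
  have h1 := ChoiceBase.mem_zc.1 (hM.zl_le S R.ctx.char2 hv)
  exact (h1.2.2 w (ZN.zc_le _ (hM.zl_le S R.ctx.char2 hw))).symm

variable (hP : MZ (S : Subgroup G) ≤ M)
include hP

theorem Wd_le : Wd (S : Subgroup G) ≤ zl (S : Subgroup G) M :=
  MinSimple.VModule.zl_le (MinSimple.VModule.zc_le_zl _ _) (hP.trans (MinSimple.VModule.le_normalizer_zl _ _))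

/-- `Z_M ≤ Q = C_S(V*)` -/
theorem zl_le_Q : zl (S : Subgroup G) M ≤ (S : Subgroup G) ⊓ centralizer (Wd (S : Subgroup G) : Set G) :=
  le_inf (((hM.zl_le S R.ctx.char2).trans (ZN.zc_le _)).trans (hM.o2_le S)) fun _ hv =>
    mem_centralizer_iff.2 fun _ hw => zl_comm R hM (Wd_le R hM hP hw) hv

/-- `Z_M` is exact on `U` as soon as it offends on `U`. -/
theorem zl_ex (QT : (S : Subgroup G) ⊓ centralizer (Wd (S : Subgroup G) : Set G) ≤ T) {U : Subgroup G}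
    (off : (centralizer (zl (S : Subgroup G) M : Set G)).relIndex U ≤
      (centralizer (U : Set G)).relIndex (zl (S : Subgroup G) M)) : Ex T U (zl (S : Subgroup G) M) := by
  refine Ex.of_rel ((zl_le_Q R hM hP).trans QT) ⟨fun a ha => ?_, fun a ha b hb => ?_⟩ off
  · rw [zl_sq R hM ha]
    exact one_mem _
  · have e : a * b * a⁻¹ * b⁻¹ = 1 := by
      rw [zl_comm R hM ha hb]
      group
    rw [e]
    exact one_mem _

/-- **the line** : some `A' = Z_M^(y⁻¹)` lies in `B` and moves `V*`. -/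
theorem line {B : Subgroup G} (QT : (S : Subgroup G) ⊓ centralizer (Wd (S : Subgroup G) : Set G) ≤ T)
    (exCj : ∀ A, Ex T (cl (Wd (S : Subgroup G)) F) A → ∀ y ∈ F, Ex T (cl (Wd (S : Subgroup G)) F) (cj y A))
    (exB : ∀ A, Ex T (cl (Wd (S : Subgroup G)) F) A → A ≤ B)
    (off : (centralizer (zl (S : Subgroup G) M : Set G)).relIndex (cl (Wd (S : Subgroup G)) F) ≤
      (centralizer (cl (Wd (S : Subgroup G)) F : Set G)).relIndex (zl (S : Subgroup G) M))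
    (hne : ¬ cl (Wd (S : Subgroup G)) F ≤ centralizer (zl (S : Subgroup G) M : Set G)) :
    ∃ y ∈ F, cj y⁻¹ (zl (S : Subgroup G) M) ≤ B ∧
      ¬ cj y⁻¹ (zl (S : Subgroup G) M) ≤ centralizer (Wd (S : Subgroup G) : Set G) := by
  have x := zl_ex R hM hP QT off
  obtain ⟨y, hy, hyV⟩ : ∃ y ∈ F, ¬ zl (S : Subgroup G) M ≤ centralizer (cj y (Wd (S : Subgroup G)) : Set G) := by
    by_contra hcon
    push Not at hcon
    exact hne (cl_le fun y hy => le_centralizer_iff.1 (hcon y hy))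
  refine ⟨y, hy, exB _ (exCj _ x _ (F.inv_mem hy)), fun h1 => hyV ?_⟩
  have h2 := cj_mono y h1
  rwa [cj_cj_inv, cj_centralizer] at h2

/-- **(α) over the frame at `(Q, V*)`.** -/
theorem hUM {ι : Type*} {B Q X ZJ : Subgroup G} {L W Z C A : ι → Subgroup G}
    (ml : MLK.{u, u}) (hK : IsKGroup M) (h4 : 4 ≤ Nat.card (zc (S : Subgroup G)))
    (fr : FrL B Q (Wd (S : Subgroup G)) X ZJ L W Z C A 2)
    (low : Wd (S : Subgroup G) ≤ o2 (CZ (S : Subgroup G)))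
    (lowz : ∀ z ∈ zc (S : Subgroup G), z ≠ 1 → Wd (S : Subgroup G) ≤ o2 (centralizer ({z} : Set G)))
    (hF : F ≤ CZ (S : Subgroup G)) (hU2 : ∀ x ∈ cl (Wd (S : Subgroup G)) F, x * x = 1)
    (QT : (S : Subgroup G) ⊓ centralizer (Wd (S : Subgroup G) : Set G) ≤ T)
    (exCj : ∀ A, Ex T (cl (Wd (S : Subgroup G)) F) A → ∀ y ∈ F, Ex T (cl (Wd (S : Subgroup G)) F) (cj y A))
    (exB : ∀ A, Ex T (cl (Wd (S : Subgroup G)) F) A → A ≤ B) : cl (Wd (S : Subgroup G)) F ≤ o2 M :=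
  Alpha.U_le_o2 S R.ctx.char2 ml hM hK h4 fr hF low lowz hU2 (line R hM hP QT exCj exB)

end zm

section wr

open Cfsg.Agent.MinSimple.VModule (oddGen)
open Cfsg.Agent.Omega.NO1.BestOff (Best)

variable {Y : Subgroup G}

/-- `U` is elementary abelian -/
theorem U_sq (h : WR S (MZ (S : Subgroup G)) T Y) : ∀ x ∈ cl (zl (S : Subgroup G) (MZ (S : Subgroup G))) Y, x * x = 1 := by
  intro x hx
  have h1 := (ChoiceBase.mem_zc.1 ((U_le h h.md_zl).trans h.zl_GR_le hx)).2.1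
  rwa [sq] at h1

variable {ι : Type*} {Q X ZJ : Subgroup G} {L W Z C A : ι → Subgroup G}

/-- **The hypothesis `hUM` of `QWR.exists_best_odd`.** -/
theorem hUM_of (R : RB S) (ml : MLK.{u, u}) (h4 : 4 ≤ Nat.card (zc (S : Subgroup G)))
    (fr : FrL (BB (S : Subgroup G) (MZ (S : Subgroup G))) Q (Wd (S : Subgroup G)) X ZJ L W Z C A 2)
    (lowz : ∀ z ∈ zc (S : Subgroup G), z ≠ 1 → Wd (S : Subgroup G) ≤ o2 (centralizer ({z} : Set G)))
    (h : WR S (MZ (S : Subgroup G)) T Y) (hY : Y ≤ CZ (S : Subgroup G))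
    (hM : IsLoc (S : Subgroup G) M) (hP : MZ (S : Subgroup G) ≤ M)
    (neg : Neg T Y (cl (zl (S : Subgroup G) (MZ (S : Subgroup G))) Y)) :
    cl (zl (S : Subgroup G) (MZ (S : Subgroup G))) Y ≤ o2 M :=
  hUM (F := Y) (T := T) R hM hP ml (ML.GNN.kgroup_of_isLoc R.ctx R.ctx.not_isPGroup hM) h4 fr h.rq.low lowz hY (U_sq h) h.QT
    (fun _ x _ hy => ex_cj h neg x hy) fun _ x => ex_le_BB h neg x

/-- **THEOREM QW**, `|Z| ≥ 4`, `q = 2`, `Y ≤ C_G(Z)`. -/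
theorem exists_best (R : RB S) (ml : MLK.{u, u}) (h4 : 4 ≤ Nat.card (zc (S : Subgroup G)))
    (fr : FrL (BB (S : Subgroup G) (MZ (S : Subgroup G))) Q (Wd (S : Subgroup G)) X ZJ L W Z C A 2)
    (lowz : ∀ z ∈ zc (S : Subgroup G), z ≠ 1 → Wd (S : Subgroup G) ≤ o2 (centralizer ({z} : Set G)))
    (h : WR S (MZ (S : Subgroup G)) T Y) (BT : BB (S : Subgroup G) (MZ (S : Subgroup G)) ≤ T)
    (hY : Y ≤ CZ (S : Subgroup G)) (hM : IsLoc (S : Subgroup G) M) (hP : MZ (S : Subgroup G) ≤ M)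
    (hD : centralizer (ZZ (S : Subgroup G) (MZ (S : Subgroup G)) : Set G) ≤ M)
    (hYZ : ¬ oddGen Y ≤ centralizer (ZZ (S : Subgroup G) (MZ (S : Subgroup G)) : Set G)) :
    ∃ A ≤ T, Best (cl (zl (S : Subgroup G) (MZ (S : Subgroup G))) Y) A ∧
      ¬ A ≤ centralizer (cl (zl (S : Subgroup G) (MZ (S : Subgroup G))) Y : Set G) ∧ ¬ A ≤ o2 Y :=
  exists_best_odd h BT hD hP hYZ (hUM_of R ml h4 fr lowz h hY hM hP)

end wr

end Cfsg.Agent.Omega.NOThreeL.QWR.AlphaOf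

end

section


/-!
# THEOREM QW at the top level `(Q, V*)` of box R, `|Z| ≥ 4`, `q = 2`: helper587's `OffR S V* Q`

`Q = C_S(V*)`, `Ω₁Z(Q) = V*`.

* the bridge : `jj_eq` : `JJ S M₀ = nxt S Q`, `zz_eq` : `ZZ S M₀ = ZK S Q`, `bb_eq` : `BB S M₀ = BK S Q`; `cl_eq`;
* `wr_of` : helper733's `WR S M₀ T F` from the hypotheses of `OffR`;
* **`offR_of`** : `OffR` from THEOREM QW (helper733), `U ≤ O₂(M)` as a hypothesis under `Neg`; no condition on `q`;
* **`offR_top`** : `OffR` for `|Z| ≥ 4`, `q = 2`, over any local `M ≥ C_G(Z_J), MZ S`.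
-/

set_option autoImplicit false
set_option linter.unusedSectionVars false

namespace Cfsg.Agent.Omega.NOThreeL.QWR.OffTop

open Subgroup Cfsg Cfsg.Agent.Omega.MinPar Cfsg.Agent.ZN.ChoiceBase Cfsg.Agent.ZN.ChoiceSit
open Cfsg.Agent.ZN (zc zl o2 jj)
open Cfsg.Agent.MinSimple.MinParabolic (IsMinPar)
open Cfsg.Agent.MinSimple.VModule (oddGen)
open Cfsg.Agent.Omega.FrameNOFF (CZ)
open Cfsg.Agent.Omega.NO3b.EZero (cl cl_le le_cl cj_le_cl le_normalizer_cl)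
open Cfsg.Agent.Omega.NO3S.Level (lev Lev nxt)
open Cfsg.Agent.Omega.NO3S.CaseLW.QWc (Neg)
open Cfsg.Agent.Omega.ML.Final (MLK)
open Cfsg.Agent.Omega.OM.Lev.Uni (FrL)
open Cfsg.Agent.Omega.OM.SwapK (WL BK ZK)
open Cfsg.Agent.Omega.NOThreeL.RTree (RB)
open Cfsg.Agent.Omega.NOThreeL.RRed (Wd)
open Cfsg.Agent.Omega.NOThreeL.RRed.FourTree (nxtX)
open Cfsg.Agent.Omega.NOThreeL.Merge (MZ)
open Cfsg.Agent.Omega.NOThreeL.QWR.Sw (OffR)

universe u

variable {G : Type u} [Group G]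

/-- `⟨V^F⟩` in the two notations -/
theorem cl_eq (V F : Subgroup G) : NoFF.Basic.V V F = cl V F := by
  apply le_antisymm
  · exact NoFF.Basic.V_le fun f hf => cj_le_cl hf
  · exact cl_le fun f hf => NoFF.Basic.Z_le_V hf

variable [Finite G] {S : Sylow 2 G} {Q : Subgroup G}

theorem jj_eq (hz : zc Q = Wd (S : Subgroup G)) :
    QWR.JJ (S : Subgroup G) (MZ (S : Subgroup G)) = nxt (S : Subgroup G) Q := by
  have h1 : nxtX (S : Subgroup G) (zc Q) = nxt (S : Subgroup G) Q := FrTop.nxtX_zc _ _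
  rw [← h1, hz]
  rfl

theorem zz_eq (hl : Lev (S : Subgroup G) Q) (hz : zc Q = Wd (S : Subgroup G)) :
    QWR.ZZ (S : Subgroup G) (MZ (S : Subgroup G)) = ZK (S : Subgroup G) Q := by
  rw [FrTop.zk_eq hl hz, ← jj_eq hz]
  rfl

theorem bb_eq (hl : Lev (S : Subgroup G) Q) (hz : zc Q = Wd (S : Subgroup G)) :
    QWR.BB (S : Subgroup G) (MZ (S : Subgroup G)) = BK (S : Subgroup G) Q := by
  unfold QWR.BB
  rw [zz_eq hl hz]
  rfl

/-- The hypotheses of `OffR` give the situation `WR`. -/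
theorem wr_of (rq : RQ S (MZ (S : Subgroup G))) (wl : WL S Q) (hz : zc Q = Wd (S : Subgroup G))
    (hQ : Q = (S : Subgroup G) ⊓ centralizer (Wd (S : Subgroup G) : Set G)) {T F : Subgroup G} (hT : Syl T F)
    (hB : BK (S : Subgroup G) Q ≤ T) (hTS : T ≤ (S : Subgroup G)) (hP : IsMinPar T F)
    (hch : F ⊓ centralizer (o2 F : Set G) ≤ o2 F) (hj : jj (S : Subgroup G) ≤ o2 F) (hn : ¬ Q ≤ o2 F)
    (hmv : ¬ oddGen F ≤ centralizer (ZK (S : Subgroup G) Q : Set G)) : WR S (MZ (S : Subgroup G)) T F where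
  rq := rq
  TS := hTS
  QT := by
    have h1 : QWR.QQ (S : Subgroup G) (MZ (S : Subgroup G)) = Q := hQ.symm
    rw [h1]
    exact (wl.lb.KB.trans' (NO3S.Level.le_nxt wl.lev.le)).trans hB
  syl := hT
  min := hP
  c2 := hch
  mvL := fun h1 => hmv (h1.trans (centralizer_le (by
    rw [← zz_eq wl.lev hz]
    exact ZZ_le _ _)))
  nQ := by
    have h1 : QWR.QQ (S : Subgroup G) (MZ (S : Subgroup G)) = Q := hQ.symm
    rw [h1]
    exact hn
  jY := hj

/-- **`OffR` from THEOREM QW**, `⟨V*^F⟩ ≤ O₂(M)` as a hypothesis under `Neg`; any `q`. -/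
theorem offR_of (rq : RQ S (MZ (S : Subgroup G))) (wl : WL S Q) (hz : zc Q = Wd (S : Subgroup G))
    (hQ : Q = (S : Subgroup G) ⊓ centralizer (Wd (S : Subgroup G) : Set G)) {M : Subgroup G}
    (hM : centralizer (ZK (S : Subgroup G) Q : Set G) ≤ M) (hP : MZ (S : Subgroup G) ≤ M)
    (hU : ∀ T F : Subgroup G, WR S (MZ (S : Subgroup G)) T F → F ≤ CZ (S : Subgroup G) →
      Neg T F (cl (Wd (S : Subgroup G)) F) → cl (Wd (S : Subgroup G)) F ≤ o2 M) :
    OffR S (Wd (S : Subgroup G)) Q := by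
  intro T F hT hB hTS hPm hch hF hj hn hmv
  have h := wr_of rq wl hz hQ hT hB hTS hPm hch hj hn hmv
  have hBT : QWR.BB (S : Subgroup G) (MZ (S : Subgroup G)) ≤ T := by
    rw [bb_eq wl.lev hz]
    exact hB
  have hD : centralizer (QWR.ZZ (S : Subgroup G) (MZ (S : Subgroup G)) : Set G) ≤ M := by
    rw [zz_eq wl.lev hz]
    exact hM
  obtain ⟨A, hA, hb, -, ho⟩ := exists_best_odd h hBT hD hP (by
    rw [zz_eq wl.lev hz]
    exact hmv) fun neg => hU T F h hF neg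
  refine ⟨A, hA, ?_, ho⟩
  rw [cl_eq]
  exact hb

variable {ι : Type} [Finite ι] {X : Subgroup G} {L W Z C A : ι → Subgroup G}

/-- **`OffR` at the top level `(Q, V*)`**, `|Z| ≥ 4`, `q = 2`. -/
theorem offR_top (R : RB S) (ml : MLK.{u, u}) (h4 : 4 ≤ Nat.card (zc (S : Subgroup G)))
    (rq : RQ S (MZ (S : Subgroup G))) (wl : WL S Q) (hz : zc Q = Wd (S : Subgroup G))
    (hQ : Q = (S : Subgroup G) ⊓ centralizer (Wd (S : Subgroup G) : Set G))
    (fr : FrL (BK (S : Subgroup G) Q) Q (Wd (S : Subgroup G)) X (ZK (S : Subgroup G) Q) L W Z C A 2)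
    (hL : ∀ i, L i ≤ MZ (S : Subgroup G)) {M : Subgroup G} (hM : IsLoc (S : Subgroup G) M)
    (hD : centralizer (ZK (S : Subgroup G) Q : Set G) ≤ M) (hP : MZ (S : Subgroup G) ≤ M) :
    OffR S (Wd (S : Subgroup G)) Q :=
  offR_of rq wl hz hQ hD hP fun T F h hF neg =>
    AlphaOf.hUM_of R ml h4 (by rw [bb_eq wl.lev hz]; exact fr) (LowZ.lowz R wl hz.ge fr hL) h hF hM hP neg

end Cfsg.Agent.Omega.NOThreeL.QWR.OffTop

end

end
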